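/-
Computations in the unipotent radical of `³D₄(q)`, `q` even.
-/
import Cfsg.Agent.Lib.Lie.Twisted.D4Perfect

set_option autoImplicit false

namespace CfsgLib.Lie.Chev.TwGroups.D4Inv

open Cfsg.Lie

variable {K : Type*} [Field K]

/-- root elements -/
abbrev X (r : ℕ) (t : K) : ↥(chevD4.group K) := xG certD4 K r t

/-- one commutator term -/
def chkSum (r s k : ℕ) : Bool := chkOneTerm chevD4 r s k 1 || chkOneTerm chevD4 r s k (-1)

theorem X_zero (r : ℕ) : X r (0 : K) = 1 := (chevRel certD4 K).xe_zero _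

theorem X_add (r : ℕ) (a b : K) : X r a * X r b = X r (a + b) := xG_pow_mul certD4 r a b

variable [CharP K 2]

theorem X_self (r : ℕ) (t : K) : X r t * X r t = 1 := by rw [X_add, CharTwo.add_self_eq_zero, X_zero]

theorem X_inv (r : ℕ) (t : K) : (X r t)⁻¹ = X r t := inv_eq_of_mul_eq_one_right (X_self r t)

theorem sum_conj {r s k : ℕ} (h : chkSum r s k = true) (t u : K) :
    X r t * X s u * X r t = X s u * X k (t * u) := by
  have key : X s u * X r t = X r t * X s u * X k (t * u) := by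
    rcases Bool.or_eq_true_iff.1 h with h | h
    · simpa [CharTwo.neg_eq] using xG_swap_one certD4 h t u
    · simpa [CharTwo.neg_eq] using xG_swap_one certD4 h t u
  rw [mul_assoc, key]
  simp only [← mul_assoc, X_self, one_mul]

theorem quiet_conj {r s : ℕ} (h : chkNoTerms chevD4 r s = true) (t u : K) :
    X r t * X s u * X r t = X s u := by
  show X r t * X s u * X r t = X s u
  rw [(xG_commute certD4 h t u).eq, mul_assoc, X_self, mul_one]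

omit [CharP K 2] in
theorem conj_mul_invol {M : Type*} [Group M] {g : M} (hg : g * g = 1) (a b : M) :
    g * (a * b) * g = g * a * g * (g * b * g) := by
  calc g * (a * b) * g = g * a * 1 * b * g := by group
    _ = g * a * (g * g) * b * g := by rw [hg]
    _ = _ := by group

theorem X_conj_mul (r : ℕ) (t : K) (a b : ↥(chevD4.group K)) :
    X r t * (a * b) * X r t = X r t * a * X r t * (X r t * b * X r t) :=
  conj_mul_invol (X_self r t) a b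

/-- the abelian subgroup of the classes of `2α+β`, `3α+β`, `3α+2β` -/
def W (a b c e f : K) : ↥(chevD4.group K) := X 21 a * X 17 b * X 20 c * X 22 e * X 23 f

theorem quietW : (chkNoTerms chevD4 21 17 = true ∧ chkNoTerms chevD4 21 20 = true ∧
      chkNoTerms chevD4 17 20 = true) ∧
    (chkNoTerms chevD4 22 21 = true ∧ chkNoTerms chevD4 22 17 = true ∧ chkNoTerms chevD4 22 20 = true) ∧
    (chkNoTerms chevD4 23 21 = true ∧ chkNoTerms chevD4 23 17 = true ∧ chkNoTerms chevD4 23 20 = true ∧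
      chkNoTerms chevD4 23 22 = true) := by decide +kernel

omit [CharP K 2] in
theorem W_mul (a b c e f a' b' c' e' f' : K) :
    W a b c e f * W a' b' c' e' f' = W (a + a') (b + b') (c + c') (e + e') (f + f') := by
  obtain ⟨⟨h1, h2, h3⟩, ⟨g1, g2, g3⟩, ⟨k1, k2, k3, k4⟩⟩ := quietW
  have e1 : Commute (X 17 b * X 20 c * X 22 e * X 23 f) (X 21 a') :=
    ((((xG_commute certD4 h1 a' b).symm).mul_left (xG_commute certD4 h2 a' c).symm).mul_left
      (xG_commute certD4 g1 e a')).mul_left (xG_commute certD4 k1 f a')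
  have e2 : Commute (X 20 c * X 22 e * X 23 f) (X 17 b') :=
    (((xG_commute certD4 h3 b' c).symm).mul_left (xG_commute certD4 g2 e b')).mul_left
      (xG_commute certD4 k2 f b')
  have e3 : Commute (X 22 e * X 23 f) (X 20 c') :=
    (xG_commute certD4 g3 e c').mul_left (xG_commute certD4 k3 f c')
  have e4 : Commute (X 23 f) (X 22 e') := xG_commute certD4 k4 f e'
  simp only [W, ← X_add]
  calc X 21 a * X 17 b * X 20 c * X 22 e * X 23 f * (X 21 a' * X 17 b' * X 20 c' * X 22 e' * X 23 f')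
      = X 21 a * ((X 17 b * X 20 c * X 22 e * X 23 f) * X 21 a') * X 17 b' * X 20 c' * X 22 e' * X 23 f' := by
        group
    _ = X 21 a * X 21 a' * X 17 b * ((X 20 c * X 22 e * X 23 f) * X 17 b') * X 20 c' * X 22 e' * X 23 f' := by
        rw [e1.eq]; group
    _ = X 21 a * X 21 a' * X 17 b * X 17 b' * X 20 c * ((X 22 e * X 23 f) * X 20 c') * X 22 e' * X 23 f' := by
        rw [e2.eq]; group
    _ = X 21 a * X 21 a' * X 17 b * X 17 b' * X 20 c * X 20 c' * X 22 e * (X 23 f * X 22 e') * X 23 f' := by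
        rw [e3.eq]; group
    _ = _ := by rw [e4.eq]; group

omit [CharP K 2] in
theorem W_zero : W (0 : K) 0 0 0 0 = 1 := by simp [W, X_zero]

omit [CharP K 2] in
theorem X21_W (t : K) : X 21 t = W t 0 0 0 0 := by simp [W, X_zero]
omit [CharP K 2] in
theorem X17_W (t : K) : X 17 t = W 0 t 0 0 0 := by simp [W, X_zero]
omit [CharP K 2] in
theorem X20_W (t : K) : X 20 t = W 0 0 t 0 0 := by simp [W, X_zero]
omit [CharP K 2] in
theorem X22_W (t : K) : X 22 t = W 0 0 0 t 0 := by simp [W, X_zero]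
omit [CharP K 2] in
theorem X23_W (t : K) : X 23 t = W 0 0 0 0 t := by simp [W, X_zero]

theorem W_self (a b c e f : K) : W a b c e f * W a b c e f = 1 := by
  simp only [W_mul, CharTwo.add_self_eq_zero, W_zero]

theorem tabW :
    (chkSum 18 17 22 = true ∧ chkNoTerms chevD4 18 20 = true ∧ chkNoTerms chevD4 18 21 = true ∧
      chkNoTerms chevD4 18 22 = true ∧ chkNoTerms chevD4 18 23 = true) ∧
    (chkSum 13 20 22 = true ∧ chkNoTerms chevD4 13 17 = true ∧ chkNoTerms chevD4 13 21 = true ∧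
      chkNoTerms chevD4 13 22 = true ∧ chkNoTerms chevD4 13 23 = true) ∧
    (chkSum 12 21 22 = true ∧ chkNoTerms chevD4 12 17 = true ∧ chkNoTerms chevD4 12 20 = true ∧
      chkNoTerms chevD4 12 22 = true ∧ chkNoTerms chevD4 12 23 = true) ∧
    (chkSum 19 17 23 = true ∧ chkNoTerms chevD4 19 20 = true ∧ chkNoTerms chevD4 19 21 = true ∧
      chkNoTerms chevD4 19 22 = true ∧ chkNoTerms chevD4 19 23 = true) ∧
    (chkSum 16 20 23 = true ∧ chkNoTerms chevD4 16 17 = true ∧ chkNoTerms chevD4 16 21 = true ∧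
      chkNoTerms chevD4 16 22 = true ∧ chkNoTerms chevD4 16 23 = true) ∧
    (chkSum 15 21 23 = true ∧ chkNoTerms chevD4 15 17 = true ∧ chkNoTerms chevD4 15 20 = true ∧
      chkNoTerms chevD4 15 22 = true ∧ chkNoTerms chevD4 15 23 = true) ∧
    (chkSum 14 22 23 = true ∧ chkNoTerms chevD4 14 17 = true ∧ chkNoTerms chevD4 14 20 = true ∧
      chkNoTerms chevD4 14 21 = true ∧ chkNoTerms chevD4 14 23 = true) := by decide +kernel

theorem w18 (t a b c e f : K) : X 18 t * W a b c e f * X 18 t = W a b c (e + t * b) f := by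
  obtain ⟨⟨h, q1, q2, q3, q4⟩, -⟩ := tabW
  simp only [W, X_conj_mul, sum_conj h, quiet_conj q1, quiet_conj q2, quiet_conj q3, quiet_conj q4]
  simp only [X17_W, X20_W, X21_W, X22_W, X23_W, W_mul]
  congr 1 <;> ring

theorem w13 (t a b c e f : K) : X 13 t * W a b c e f * X 13 t = W a b c (e + t * c) f := by
  obtain ⟨-, ⟨h, q1, q2, q3, q4⟩, -⟩ := tabW
  simp only [W, X_conj_mul, sum_conj h, quiet_conj q1, quiet_conj q2, quiet_conj q3, quiet_conj q4]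
  simp only [X17_W, X20_W, X21_W, X22_W, X23_W, W_mul]
  congr 1 <;> ring

theorem w12 (t a b c e f : K) : X 12 t * W a b c e f * X 12 t = W a b c (e + t * a) f := by
  obtain ⟨-, -, ⟨h, q1, q2, q3, q4⟩, -⟩ := tabW
  simp only [W, X_conj_mul, sum_conj h, quiet_conj q1, quiet_conj q2, quiet_conj q3, quiet_conj q4]
  simp only [X17_W, X20_W, X21_W, X22_W, X23_W, W_mul]
  congr 1 <;> ring

theorem w19 (t a b c e f : K) : X 19 t * W a b c e f * X 19 t = W a b c e (f + t * b) := by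
  obtain ⟨-, -, -, ⟨h, q1, q2, q3, q4⟩, -⟩ := tabW
  simp only [W, X_conj_mul, sum_conj h, quiet_conj q1, quiet_conj q2, quiet_conj q3, quiet_conj q4]
  simp only [X17_W, X20_W, X21_W, X22_W, X23_W, W_mul]
  congr 1 <;> ring

theorem w16 (t a b c e f : K) : X 16 t * W a b c e f * X 16 t = W a b c e (f + t * c) := by
  obtain ⟨-, -, -, -, ⟨h, q1, q2, q3, q4⟩, -⟩ := tabW
  simp only [W, X_conj_mul, sum_conj h, quiet_conj q1, quiet_conj q2, quiet_conj q3, quiet_conj q4]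
  simp only [X17_W, X20_W, X21_W, X22_W, X23_W, W_mul]
  congr 1 <;> ring

theorem w15 (t a b c e f : K) : X 15 t * W a b c e f * X 15 t = W a b c e (f + t * a) := by
  obtain ⟨-, -, -, -, -, ⟨h, q1, q2, q3, q4⟩, -⟩ := tabW
  simp only [W, X_conj_mul, sum_conj h, quiet_conj q1, quiet_conj q2, quiet_conj q3, quiet_conj q4]
  simp only [X17_W, X20_W, X21_W, X22_W, X23_W, W_mul]
  congr 1 <;> ring

theorem w14 (t a b c e f : K) : X 14 t * W a b c e f * X 14 t = W a b c e (f + t * e) := by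
  obtain ⟨-, -, -, -, -, -, ⟨h, q1, q2, q3, q4⟩⟩ := tabW
  simp only [W, X_conj_mul, sum_conj h, quiet_conj q1, quiet_conj q2, quiet_conj q3, quiet_conj q4]
  simp only [X17_W, X20_W, X21_W, X22_W, X23_W, W_mul]
  congr 1 <;> ring

/-- moving a factor to the left across an element of `W` -/
theorem push {r : ℕ} (t : K) (x : ↥(chevD4.group K)) : x * X r t = X r t * (X r t * x * X r t) := by
  simp only [← mul_assoc, X_self, one_mul]

/-- the class of `α + β` times `W` -/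
def BW (u₀ u₁ u₂ a b c e f : K) : ↥(chevD4.group K) := X 19 u₀ * X 16 u₁ * X 15 u₂ * W a b c e f

theorem BW_build (u₀ u₁ u₂ a₀ b₀ c₀ e₀ f₀ a₁ b₁ c₁ e₁ f₁ a₂ b₂ c₂ e₂ f₂ : K) :
    X 19 u₀ * W a₀ b₀ c₀ e₀ f₀ * (X 16 u₁ * W a₁ b₁ c₁ e₁ f₁) * (X 15 u₂ * W a₂ b₂ c₂ e₂ f₂) =
      BW u₀ u₁ u₂ (a₀ + a₁ + a₂) (b₀ + b₁ + b₂) (c₀ + c₁ + c₂) (e₀ + e₁ + e₂)
        (f₀ + f₁ + f₂ + u₁ * c₀ + u₂ * (a₀ + a₁)) := by
  calc X 19 u₀ * W a₀ b₀ c₀ e₀ f₀ * (X 16 u₁ * W a₁ b₁ c₁ e₁ f₁) * (X 15 u₂ * W a₂ b₂ c₂ e₂ f₂)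
      = X 19 u₀ * (W a₀ b₀ c₀ e₀ f₀ * X 16 u₁) * W a₁ b₁ c₁ e₁ f₁ * X 15 u₂ * W a₂ b₂ c₂ e₂ f₂ := by group
    _ = X 19 u₀ * X 16 u₁ * (W a₀ b₀ c₀ e₀ (f₀ + u₁ * c₀) * W a₁ b₁ c₁ e₁ f₁ * X 15 u₂) *
          W a₂ b₂ c₂ e₂ f₂ := by
        rw [push u₁, w16]; group
    _ = X 19 u₀ * X 16 u₁ * X 15 u₂ * (W (a₀ + a₁) (b₀ + b₁) (c₀ + c₁) (e₀ + e₁)
          (f₀ + u₁ * c₀ + f₁ + u₂ * (a₀ + a₁)) * W a₂ b₂ c₂ e₂ f₂) := by
        rw [W_mul, push u₂, w15]; group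
    _ = _ := by
        rw [W_mul, BW]
        congr 2; ring

theorem tabA :
    (chkSum 18 16 21 = true ∧ chkSum 18 15 20 = true ∧ chkNoTerms chevD4 18 19 = true) ∧
    (chkSum 13 19 21 = true ∧ chkSum 13 15 17 = true ∧ chkNoTerms chevD4 13 16 = true) ∧
    (chkSum 12 19 20 = true ∧ chkSum 12 16 17 = true ∧ chkNoTerms chevD4 12 15 = true) ∧
    (chkSum 14 18 19 = true ∧ chkSum 14 13 16 = true ∧ chkSum 14 12 15 = true) ∧
    (chkNoTerms chevD4 14 19 = true ∧ chkNoTerms chevD4 14 16 = true ∧ chkNoTerms chevD4 14 15 = true) ∧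
    (chkNoTerms chevD4 18 13 = true ∧ chkNoTerms chevD4 18 12 = true ∧ chkNoTerms chevD4 13 12 = true) ∧
    (chkNoTerms chevD4 19 16 = true ∧ chkNoTerms chevD4 19 15 = true ∧ chkNoTerms chevD4 16 15 = true) := by
  decide +kernel

omit [CharP K 2] in
theorem asW (r : ℕ) (t : K) : X r t = X r t * W 0 0 0 0 0 := by rw [W_zero, mul_one]

theorem b18 (t u₀ u₁ u₂ a b c e f : K) : X 18 t * BW u₀ u₁ u₂ a b c e f * X 18 t =
    BW u₀ u₁ u₂ (a + t * u₁) b (c + t * u₂) (e + t * b) (f + u₂ * (t * u₁)) := by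
  obtain ⟨⟨h1, h2, q⟩, -⟩ := tabA
  rw [BW, X_conj_mul, X_conj_mul, X_conj_mul, quiet_conj q, sum_conj h1, sum_conj h2, w18, X21_W, X20_W,
    asW 19 u₀, BW_build, BW, mul_assoc _ (W _ _ _ _ _), W_mul, BW]
  congr 2 <;> ring

theorem b13 (t u₀ u₁ u₂ a b c e f : K) : X 13 t * BW u₀ u₁ u₂ a b c e f * X 13 t =
    BW u₀ u₁ u₂ (a + t * u₀) (b + t * u₂) c (e + t * c) (f + u₂ * (t * u₀)) := by
  obtain ⟨-, ⟨h1, h2, q⟩, -⟩ := tabA
  rw [BW, X_conj_mul, X_conj_mul, X_conj_mul, quiet_conj q, sum_conj h1, sum_conj h2, w13, X21_W, X17_W,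
    asW 16 u₁, BW_build, BW, mul_assoc _ (W _ _ _ _ _), W_mul, BW]
  congr 2 <;> ring

theorem b12 (t u₀ u₁ u₂ a b c e f : K) : X 12 t * BW u₀ u₁ u₂ a b c e f * X 12 t =
    BW u₀ u₁ u₂ a (b + t * u₁) (c + t * u₀) (e + t * a) (f + u₁ * (t * u₀)) := by
  obtain ⟨-, -, ⟨h1, h2, q⟩, -⟩ := tabA
  rw [BW, X_conj_mul, X_conj_mul, X_conj_mul, quiet_conj q, sum_conj h1, sum_conj h2, w12, X20_W, X17_W,
    asW 15 u₂, BW_build, BW, mul_assoc _ (W _ _ _ _ _), W_mul, BW]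
  congr 2 <;> ring

theorem b14 (t u₀ u₁ u₂ a b c e f : K) : X 14 t * BW u₀ u₁ u₂ a b c e f * X 14 t =
    BW u₀ u₁ u₂ a b c e (f + t * e) := by
  obtain ⟨-, -, -, -, ⟨q1, q2, q3⟩, -⟩ := tabA
  rw [BW, X_conj_mul, X_conj_mul, X_conj_mul, quiet_conj q1, quiet_conj q2, quiet_conj q3, w14, BW]

theorem bB (t₀ t₁ t₂ u₀ u₁ u₂ a b c e f : K) :
    BW t₀ t₁ t₂ 0 0 0 0 0 * BW u₀ u₁ u₂ a b c e f = BW (t₀ + u₀) (t₁ + u₁) (t₂ + u₂) a b c e f := by
  obtain ⟨-, -, -, -, -, -, ⟨q1, q2, q3⟩⟩ := tabA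
  simp only [BW, W_zero, mul_one, ← X_add]
  have e1 : Commute (X 16 t₁ * X 15 t₂) (X 19 u₀) :=
    (xG_commute certD4 q1 u₀ t₁).symm.mul_left (xG_commute certD4 q2 u₀ t₂).symm
  have e2 : Commute (X 15 t₂) (X 16 u₁) := (xG_commute certD4 q3 u₁ t₂).symm
  calc X 19 t₀ * X 16 t₁ * X 15 t₂ * (X 19 u₀ * X 16 u₁ * X 15 u₂ * W a b c e f)
      = X 19 t₀ * ((X 16 t₁ * X 15 t₂) * X 19 u₀) * X 16 u₁ * X 15 u₂ * W a b c e f := by group
    _ = X 19 t₀ * X 19 u₀ * X 16 t₁ * (X 15 t₂ * X 16 u₁) * X 15 u₂ * W a b c e f := by rw [e1.eq]; group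
    _ = _ := by rw [e2.eq]; group

/-- the class of `α` -/
def A3 (s₀ s₁ s₂ : K) : ↥(chevD4.group K) := X 18 s₀ * X 13 s₁ * X 12 s₂

theorem A3_rev (s₀ s₁ s₂ : K) : A3 s₀ s₁ s₂ = X 12 s₂ * X 13 s₁ * X 18 s₀ := by
  obtain ⟨-, -, -, -, -, ⟨q1, q2, q3⟩, -⟩ := tabA
  rw [A3, ((xG_commute certD4 q1 s₀ s₁).eq), ((xG_commute certD4 q3 s₁ s₂).symm.eq),
    mul_assoc, (xG_commute certD4 q2 s₀ s₂).eq, ← mul_assoc]

theorem A3_add (s₀ s₁ s₂ t₀ t₁ t₂ : K) : A3 s₀ s₁ s₂ * A3 t₀ t₁ t₂ = A3 (s₀ + t₀) (s₁ + t₁) (s₂ + t₂) := by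
  obtain ⟨-, -, -, -, -, ⟨q1, q2, q3⟩, -⟩ := tabA
  simp only [A3, ← X_add]
  have e1 : Commute (X 13 s₁ * X 12 s₂) (X 18 t₀) :=
    (xG_commute certD4 q1 t₀ s₁).symm.mul_left (xG_commute certD4 q2 t₀ s₂).symm
  have e2 : Commute (X 12 s₂) (X 13 t₁) := (xG_commute certD4 q3 t₁ s₂).symm
  calc X 18 s₀ * X 13 s₁ * X 12 s₂ * (X 18 t₀ * X 13 t₁ * X 12 t₂)
      = X 18 s₀ * ((X 13 s₁ * X 12 s₂) * X 18 t₀) * X 13 t₁ * X 12 t₂ := by group
    _ = X 18 s₀ * X 18 t₀ * X 13 s₁ * (X 12 s₂ * X 13 t₁) * X 12 t₂ := by rw [e1.eq]; group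
    _ = _ := by rw [e2.eq]; group

theorem A3_self (s₀ s₁ s₂ : K) : A3 s₀ s₁ s₂ * A3 s₀ s₁ s₂ = 1 := by
  simp only [A3_add, CharTwo.add_self_eq_zero]
  simp [A3, X_zero]

theorem A3_conj (s₀ s₁ s₂ : K) (g : ↥(chevD4.group K)) : A3 s₀ s₁ s₂ * g * A3 s₀ s₁ s₂ =
    X 18 s₀ * (X 13 s₁ * (X 12 s₂ * g * X 12 s₂) * X 13 s₁) * X 18 s₀ := by
  conv_lhs => arg 2; rw [A3_rev]
  rw [A3]; group

theorem A3_BW (s₀ s₁ s₂ u₀ u₁ u₂ a b c e f : K) : A3 s₀ s₁ s₂ * BW u₀ u₁ u₂ a b c e f * A3 s₀ s₁ s₂ =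
    BW u₀ u₁ u₂ (a + s₁ * u₀ + s₀ * u₁) (b + s₂ * u₁ + s₁ * u₂) (c + s₂ * u₀ + s₀ * u₂)
      (e + s₂ * a + s₁ * (c + s₂ * u₀) + s₀ * (b + s₂ * u₁ + s₁ * u₂))
      (f + u₁ * (s₂ * u₀) + u₂ * (s₁ * u₀) + u₂ * (s₀ * u₁)) := by
  rw [A3_conj, b12, b13, b18]

theorem A3_W (s₀ s₁ s₂ a b c e f : K) : A3 s₀ s₁ s₂ * W a b c e f * A3 s₀ s₁ s₂ =
    W a b c (e + s₂ * a + s₁ * c + s₀ * b) f := by
  rw [A3_conj, w12, w13, w18]

/-- conjugating the class of `α` by the simple root element of `β` -/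
theorem c14A (t s₀ s₁ s₂ : K) : X 14 t * A3 s₀ s₁ s₂ * X 14 t =
    A3 s₀ s₁ s₂ * BW (t * s₀) (t * s₁) (t * s₂) (t * s₀ * s₁) (t * s₁ * s₂) (t * s₀ * s₂)
      (t * s₀ * s₁ * s₂) 0 := by
  obtain ⟨-, -, ⟨-, -, q12⟩, ⟨h1, h2, h3⟩, -⟩ := tabA
  rw [A3, X_conj_mul, X_conj_mul, sum_conj h1, sum_conj h2, sum_conj h3]
  calc X 18 s₀ * X 19 (t * s₀) * (X 13 s₁ * X 16 (t * s₁)) * (X 12 s₂ * X 15 (t * s₂))
      = X 18 s₀ * X 13 s₁ * (X 13 s₁ * BW (t * s₀) 0 0 0 0 0 0 0 * X 13 s₁) * BW 0 (t * s₁) 0 0 0 0 0 0 *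
          X 12 s₂ * X 15 (t * s₂) := by
        simp only [BW, W_zero, X_zero, mul_one, one_mul, ← mul_assoc]
        rw [mul_assoc (X 18 s₀) (X 13 s₁) (X 13 s₁), X_self, mul_one]
    _ = X 18 s₀ * X 13 s₁ * X 12 s₂ * (X 12 s₂ * (X 19 (t * s₀) * W (s₁ * (t * s₀)) 0 0 0 0 *
          (X 16 (t * s₁) * W 0 0 0 0 0)) * X 12 s₂) * (X 15 (t * s₂) * W 0 0 0 0 0) := by
        rw [b13]
        simp only [BW, W_zero, X_zero, mul_one, one_mul, mul_zero, zero_mul, add_zero, zero_add, ← mul_assoc]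
        rw [mul_assoc _ (X 12 s₂) (X 12 s₂), X_self, mul_one]
    _ = X 18 s₀ * X 13 s₁ * X 12 s₂ * (X 12 s₂ * BW (t * s₀) (t * s₁) 0 (s₁ * (t * s₀)) 0 0 0 0 * X 12 s₂) *
          (X 15 (t * s₂) * W 0 0 0 0 0) := by
        congr 3
        have := BW_build (t * s₀) (t * s₁) 0 (s₁ * (t * s₀)) 0 0 0 0 0 0 0 0 0 0 0 0 0 0
        simp only [X_zero, W_zero, mul_one, one_mul, add_zero, zero_add, mul_zero, zero_mul] at this ⊢
        rw [this]
    _ = X 18 s₀ * X 13 s₁ * X 12 s₂ * (X 19 (t * s₀) * X 16 (t * s₁) *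
          (W (s₁ * (t * s₀)) (s₂ * (t * s₁)) (s₂ * (t * s₀)) (s₂ * (s₁ * (t * s₀))) ((t * s₁) * (s₂ * (t * s₀))) *
            X 15 (t * s₂))) := by
        rw [b12]
        simp only [BW, W_zero, X_zero, mul_one, mul_zero, add_zero, zero_add, mul_assoc]
    _ = _ := by
        rw [push (t * s₂), w15, BW]
        simp only [← mul_assoc]
        congr 2
        · ring
        · ring
        · ring
        · ring
        · linear_combination (t * s₁ * s₂ * t * s₀) * (CharTwo.two_eq_zero (R := K))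

end CfsgLib.Lie.Chev.TwGroups.D4Inv
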