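/-
The long root elements and the short root elements of `³D₄(q)`, `q` even, are not conjugate.
-/
import Cfsg.Agent.Lib.Lie.Twisted.D4Inv.Calc

set_option autoImplicit false

namespace CfsgLib.Lie.Chev.TwGroups.D4Inv

open Cfsg.Lie

private def l17 : List (ℕ × ℕ) :=
  [(1, 10), (2, 10), (3, 10), (8, 4), (9, 5), (16, 11), (17, 12), (19, 14), (20, 15), (21, 0), (21, 2), (21, 3), (21, 10), (26, 22), (27, 23)]

private def l20 : List (ℕ × ℕ) :=
  [(0, 7), (1, 7), (3, 7), (11, 4), (14, 5), (16, 8), (19, 9), (22, 12), (23, 15), (24, 0), (24, 2), (24, 3), (24, 7), (26, 17), (27, 20)]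

private def l21 : List (ℕ × ℕ) :=
  [(0, 6), (1, 6), (2, 6), (12, 4), (15, 5), (17, 8), (20, 9), (22, 11), (23, 14), (25, 0), (25, 2), (25, 3), (25, 6), (26, 16), (27, 19)]

private def l23 : List (ℕ × ℕ) :=
  [(0, 4), (2, 4), (3, 4), (18, 5), (19, 6), (20, 7), (21, 8), (23, 10), (24, 11), (25, 12), (26, 13), (27, 1), (27, 4)]

private def lS : List (ℕ × ℕ) :=
  [(0, 6), (0, 7), (1, 6), (1, 7), (1, 10), (2, 6), (2, 10), (3, 7), (3, 10), (8, 4), (9, 5), (11, 4), (12, 4), (14, 5), (15, 5), (16, 4), (16, 8), (16, 11), (17, 4), (17, 8), (17, 12), (19, 5), (19, 9), (19, 14), (20, 5), (20, 9), (20, 15), (21, 0), (21, 2), (21, 3), (21, 10), (22, 4), (22, 11), (22, 12), (23, 5), (23, 14), (23, 15), (24, 0), (24, 2), (24, 3), (24, 7), (25, 0), (25, 2), (25, 3), (25, 6), (26, 4), (26, 8), (26, 11), (26, 12), (26, 16), (26, 17), (26, 22), (27, 5), (27, 9), (27, 14), (27, 15), (27, 19), (27, 20), (27, 23)]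

private def lA : List (ℕ × ℕ) :=
  [(0, 0), (2, 0), (3, 0), (18, 1), (19, 2), (20, 3), (21, 4), (23, 5), (24, 6), (25, 7), (26, 8), (27, 9)]

private def lB : List (ℕ × ℕ) :=
  [(0, 4), (1, 5), (2, 6), (3, 7), (4, 8), (5, 10), (6, 11), (7, 12), (8, 13), (9, 1), (9, 4)]

private def lE1 : List (ℕ × ℕ) :=
  [(0, 0), (1, 1), (2, 2), (3, 8), (4, 9), (5, 16), (6, 17), (7, 19), (8, 20), (9, 21), (10, 26)]

private def lE2 : List (ℕ × ℕ) :=
  [(0, 0), (0, 1), (0, 9), (4, 3), (5, 4), (6, 0), (6, 1), (6, 2), (7, 1), (7, 2), (8, 3), (8, 5), (8, 6), (8, 10), (9, 4), (9, 8), (10, 0), (10, 1), (11, 6), (11, 10), (12, 5), (12, 10), (14, 7), (14, 8)]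

private def l2117 : List (ℕ × ℕ) :=
  [(0, 6), (1, 6), (1, 10), (2, 6), (2, 10), (3, 10), (8, 4), (9, 5), (12, 4), (15, 5), (16, 11), (17, 4), (17, 8), (17, 12), (19, 14), (20, 5), (20, 9), (20, 15), (21, 0), (21, 2), (21, 3), (21, 10), (22, 11), (23, 14), (25, 0), (25, 2), (25, 3), (25, 6), (26, 11), (26, 16), (26, 22), (27, 14), (27, 19), (27, 23)]

/-- position of an index -/
def pos : chevD4.Idx → ℕ
  | Sum.inl i => i.val
  | Sum.inr j => 4 + j.val

/-- a square zero-one matrix -/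
def sqMat (L : List (ℕ × ℕ)) : Matrix chevD4.Idx chevD4.Idx (ZMod 2) :=
  Matrix.of fun i j => if (pos i, pos j) ∈ L then 1 else 0

/-- a zero-one matrix with few columns -/
def tall (m : ℕ) (L : List (ℕ × ℕ)) : Matrix chevD4.Idx (Fin m) (ZMod 2) :=
  Matrix.of fun i j => if (pos i, j.val) ∈ L then 1 else 0

/-- a zero-one matrix with few rows -/
def wide (m : ℕ) (L : List (ℕ × ℕ)) : Matrix (Fin m) chevD4.Idx (ZMod 2) :=
  Matrix.of fun i j => if (i.val, pos j) ∈ L then 1 else 0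

theorem tab17 : chevD4.xMat (ZMod 2) ⟨17, by decide +kernel⟩ 1 = 1 + sqMat l17 := by decide +kernel
theorem tab20 : chevD4.xMat (ZMod 2) ⟨20, by decide +kernel⟩ 1 = 1 + sqMat l20 := by decide +kernel
theorem tab21 : chevD4.xMat (ZMod 2) ⟨21, by decide +kernel⟩ 1 = 1 + sqMat l21 := by decide +kernel
theorem tab23 : chevD4.xMat (ZMod 2) ⟨23, by decide +kernel⟩ 1 = 1 + sqMat l23 := by decide +kernel

theorem tabS1 : sqMat l21 + sqMat l17 + sqMat l21 * sqMat l17 = sqMat l2117 := by decide +kernel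

theorem tabS2 : sqMat l2117 + sqMat l20 + sqMat l2117 * sqMat l20 = sqMat lS := by decide +kernel

theorem tabLong : sqMat l23 = tall 10 lA * wide 10 lB := by decide +kernel

theorem tabShort : wide 11 lE1 * sqMat lS * tall 11 lE2 = 1 := by decide +kernel

theorem xMat_map {A B : Type*} [Field A] [Field B] (f : A →+* B) (D : ChevalleyDatum) (r : Fin D.nroots) (t : A) :
    (D.xMat A r t).map f = D.xMat B r (f t) := by
  ext i j
  simp only [Matrix.map_apply, ChevalleyDatum.xMat, Matrix.of_apply]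
  rcases i with i | i <;> rcases j with j | j <;> simp only <;> split_ifs <;>
    simp [map_list_sum, List.map_map, Function.comp_def]

theorem one_add_mul3 {R : Type*} [Semiring R] {a b c ab s : R} (h1 : a + b + a * b = ab) (h2 : ab + c + ab * c = s) :
    (1 + a) * (1 + b) * (1 + c) = 1 + s := by
  rw [← h2, ← h1]
  simp only [mul_add, add_mul, mul_one, one_mul]
  abel

theorem tabShortVal : chevD4.xMat (ZMod 2) ⟨21, by decide +kernel⟩ 1 * chevD4.xMat (ZMod 2) ⟨17, by decide +kernel⟩ 1 *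
    chevD4.xMat (ZMod 2) ⟨20, by decide +kernel⟩ 1 = 1 + sqMat lS := by
  rw [tab17, tab20, tab21]
  exact one_add_mul3 tabS1 tabS2

variable (K : Type*) [Field K] [CharP K 2]

theorem x_eq_map {r : ℕ} (hr : r < chevD4.nroots) :
    chevD4.x K r 1 = (chevD4.xMat (ZMod 2) ⟨r, hr⟩ 1).map (ZMod.castHom (dvd_refl 2) K) := by
  rw [xMat_map, map_one]
  exact dif_pos hr

/-- a short root element of the twisted group is not conjugate in `GL` to a long root element -/
theorem not_conj (P : GL chevD4.Idx K) :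
    (P : Matrix chevD4.Idx chevD4.Idx K) * chevD4.x K 23 1 * ((P⁻¹ : GL chevD4.Idx K) : Matrix chevD4.Idx chevD4.Idx K) ≠
      chevD4.x K 21 1 * chevD4.x K 17 1 * chevD4.x K 20 1 := by
  intro h
  obtain ⟨ψ, hψ⟩ : ∃ ψ, ψ = ZMod.castHom (dvd_refl 2) K := ⟨_, rfl⟩
  have h23 : chevD4.x K 23 1 = 1 + (sqMat l23).map ψ := by
    rw [x_eq_map K (by decide +kernel), tab23, ← hψ, ← RingHom.mapMatrix_apply, map_add, map_one]
    rfl
  have hS : chevD4.x K 21 1 * chevD4.x K 17 1 * chevD4.x K 20 1 = 1 + (sqMat lS).map ψ := by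
    rw [x_eq_map K (r := 21) (by decide +kernel), x_eq_map K (r := 17) (by decide +kernel),
      x_eq_map K (r := 20) (by decide +kernel), ← hψ, ← RingHom.mapMatrix_apply, ← RingHom.mapMatrix_apply,
      ← RingHom.mapMatrix_apply, ← map_mul, ← map_mul, tabShortVal, map_add, map_one]
    rfl
  rw [h23, hS, mul_add, add_mul, mul_one, ← Units.val_mul, mul_inv_cancel, Units.val_one, add_right_inj] at h
  obtain ⟨Pm, hPm⟩ : ∃ Pm, Pm = (P : Matrix chevD4.Idx chevD4.Idx K) := ⟨_, rfl⟩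
  obtain ⟨Qm, hQm⟩ : ∃ Qm, Qm = ((P⁻¹ : GL chevD4.Idx K) : Matrix chevD4.Idx chevD4.Idx K) := ⟨_, rfl⟩
  rw [← hPm, ← hQm] at h
  have h1 : ((wide 11 lE1).map ψ * Pm * (tall 10 lA).map ψ) * ((wide 10 lB).map ψ * Qm * (tall 11 lE2).map ψ) =
      (1 : Matrix (Fin 11) (Fin 11) K) := by
    calc _ = (wide 11 lE1).map ψ * (Pm * ((tall 10 lA).map ψ * (wide 10 lB).map ψ) * Qm) * (tall 11 lE2).map ψ := by
          simp only [Matrix.mul_assoc]
      _ = (wide 11 lE1).map ψ * (sqMat lS).map ψ * (tall 11 lE2).map ψ := by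
          rw [← Matrix.map_mul, ← tabLong, h]
      _ = 1 := by
          rw [← Matrix.map_mul, ← Matrix.map_mul, tabShort, Matrix.map_one _ (map_zero ψ) (map_one ψ)]
  have h2 := Matrix.rank_mul_le_left ((wide 11 lE1).map ψ * Pm * (tall 10 lA).map ψ)
    ((wide 10 lB).map ψ * Qm * (tall 11 lE2).map ψ)
  rw [h1, Matrix.rank_one, Fintype.card_fin] at h2
  have h3 := h2.trans (Matrix.rank_le_card_width _)
  rw [Fintype.card_fin] at h3
  omega

end CfsgLib.Lie.Chev.TwGroups.D4Inv
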