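/-
Reduction of the involutions of the unipotent radical of `³D₄(q)`, `q` even, to two representatives.
-/
import Cfsg.Agent.Lib.Lie.Twisted.D4Inv.Calc
import Cfsg.Agent.Lib.Lie.WeakClosed.ParabolicCentralizer

set_option autoImplicit false

namespace CfsgLib.Lie.Chev.TwGroups.D4Inv

open Cfsg.Lie

variable {K : Type*} [Field K] (φ : K →+* K)

/-- the trace to the fixed field -/
def tr (x : K) : K := x + φ x + φ (φ x)

/-- the class of `α` -/
def tA (s : K) : ↥(chevD4.group K) := A3 s (φ s) (φ (φ s))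

/-- the class of `α + β` -/
def tB (u : K) : ↥(chevD4.group K) := BW u (φ u) (φ (φ u)) 0 0 0 0 0

/-- the three top classes -/
def tE (v e f : K) : ↥(chevD4.group K) := W v (φ v) (φ (φ v)) e f

/-- the simple reflection of the short simple root -/
def nA : ↥(chevD4.group K) :=
  (chevRel certD4 K).ne 18 1 * ((chevRel certD4 K).ne 13 1 * (chevRel certD4 K).ne 12 1)

/-- the simple reflection of the long simple root -/
def nB : ↥(chevD4.group K) := (chevRel certD4 K).ne 14 1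

/-- the torus of the short simple root -/
def hA (t : K) : ↥(chevD4.group K) :=
  (chevRel certD4 K).he 18 t * ((chevRel certD4 K).he 13 (φ t) * (chevRel certD4 K).he 12 (φ (φ t)))

/-- the torus of the long simple root -/
def hB (a : K) : ↥(chevD4.group K) := (chevRel certD4 K).he 14 a

/-- the elements used for conjugation lie in `H` -/
structure Mem (H : Subgroup ↥(chevD4.group K)) : Prop where
  mA : ∀ s, tA φ s ∈ H
  mB : ∀ u, tB φ u ∈ H
  mC : ∀ v, tE φ v 0 0 ∈ H
  m14 : ∀ a, φ a = a → X 14 a ∈ H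
  mnA : nA (K := K) ∈ H
  mnB : nB (K := K) ∈ H
  mhA : ∀ t, t ≠ 0 → hA φ t ∈ H
  mhB : ∀ a, a ≠ 0 → φ a = a → hB a ∈ H

/-- conjugacy under `H` -/
def Cj (H : Subgroup ↥(chevD4.group K)) (g h : ↥(chevD4.group K)) : Prop := ∃ c ∈ H, c * g * c⁻¹ = h

/-- the conclusion for one element -/
def Good (H : Subgroup ↥(chevD4.group K)) (g : ↥(chevD4.group K)) : Prop :=
  g = 1 ∨ Cj H g (X 23 1) ∨ Cj H g (W 1 1 1 0 0)

variable {φ} {H : Subgroup ↥(chevD4.group K)}

theorem Cj.trans {f g h : ↥(chevD4.group K)} (h₁ : Cj H f g) (h₂ : Cj H g h) : Cj H f h := by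
  obtain ⟨c, hc, rfl⟩ := h₁
  obtain ⟨d, hd, rfl⟩ := h₂
  exact ⟨d * c, mul_mem hd hc, by group⟩

theorem Cj.good {g h : ↥(chevD4.group K)} (hc : Cj H g h) (hh : Good H h) : Good H g := by
  rcases hh with rfl | h1 | h1
  · obtain ⟨c, -, hc⟩ := hc
    exact Or.inl (conj_eq_one_iff.1 hc)
  · exact Or.inr (Or.inl (hc.trans h1))
  · exact Or.inr (Or.inr (hc.trans h1))

theorem Cj.sq {g h : ↥(chevD4.group K)} (hc : Cj H g h) (hg : g * g = 1) : h * h = 1 := by
  obtain ⟨c, -, rfl⟩ := hc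
  calc c * g * c⁻¹ * (c * g * c⁻¹) = c * (g * g) * c⁻¹ := by group
    _ = 1 := by rw [hg]; group

theorem Cj.invol {c : ↥(chevD4.group K)} (hc : c ∈ H) (hcc : c * c = 1) (g : ↥(chevD4.group K)) :
    Cj H g (c * g * c) := ⟨c, hc, by rw [inv_eq_of_mul_eq_one_right hcc]⟩

variable [CharP K 2]

theorem tA_self (s : K) : tA φ s * tA φ s = 1 := A3_self _ _ _

theorem tB_self (u : K) : tB φ u * tB φ u = 1 := by
  rw [tB, bB]
  simp [CharTwo.add_self_eq_zero, BW, W_zero, X_zero]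

theorem tE_self (v e f : K) : tE φ v e f * tE φ v e f = 1 := W_self _ _ _ _ _

theorem tA_mul (s t : K) : tA φ s * tA φ t = tA φ (s + t) := by simp only [tA, A3_add, map_add]

theorem tE_mul (v e f v' e' f' : K) : tE φ v e f * tE φ v' e' f' = tE φ (v + v') (e + e') (f + f') := by
  simp only [tE, W_mul, map_add]

omit [CharP K 2] in
theorem tE_zero : tE φ 0 0 0 = 1 := by simp [tE, W_zero]

theorem tB_tE (u v e f : K) : tB φ u * tE φ v e f = BW u (φ u) (φ (φ u)) v (φ v) (φ (φ v)) e f := by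
  simp only [tB, tE, BW, W_zero, mul_one]

theorem tB_mul (u u' : K) : tB φ u * tB φ u' = tB φ (u + u') := by simp only [tB, bB, map_add]

variable (hφ : ∀ x, φ (φ (φ x)) = x)

theorem tr_fixed (hφ : ∀ x, φ (φ (φ x)) = x) (x : K) : φ (tr φ x) = tr φ x := by
  simp only [tr, map_add, hφ]; ring

theorem three_mul' (x : K) : x + x + x = x := by rw [CharTwo.add_self_eq_zero, zero_add]

theorem tr_of_fixed {x : K} (h : φ x = x) : tr φ x = x := by
  rw [tr, h, h, three_mul']

theorem swap_invol {M : Type*} [Group M] {g : M} (hg : g * g = 1) (x : M) : x * g = g * (g * x * g) := by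
  simp only [← mul_assoc, hg, one_mul]

include hφ in
theorem A_E (s v e f : K) : tA φ s * tE φ v e f * tA φ s = tE φ v (e + tr φ (s * φ v)) f := by
  rw [tA, tE, A3_W, tE]
  congr 1
  simp only [tr, map_mul, hφ]; ring

theorem B_E_raw (u₀ u₁ u₂ a b c e f : K) : BW u₀ u₁ u₂ 0 0 0 0 0 * W a b c e f * BW u₀ u₁ u₂ 0 0 0 0 0 =
    W a b c e (f + u₀ * b + u₁ * c + u₂ * a) := by
  obtain ⟨-, -, -, -, -, -, ⟨q1, q2, q3⟩⟩ := tabA
  have hrev : X 19 u₀ * X 16 u₁ * X 15 u₂ = X 15 u₂ * X 16 u₁ * X 19 u₀ := by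
    rw [(xG_commute certD4 q1 u₀ u₁).eq, mul_assoc, (xG_commute certD4 q2 u₀ u₂).eq, ← mul_assoc,
      (xG_commute certD4 q3 u₁ u₂).eq]
  simp only [BW, W_zero, mul_one]
  conv_lhs => arg 2; rw [hrev]
  calc X 19 u₀ * X 16 u₁ * X 15 u₂ * W a b c e f * (X 15 u₂ * X 16 u₁ * X 19 u₀)
      = X 19 u₀ * (X 16 u₁ * (X 15 u₂ * W a b c e f * X 15 u₂) * X 16 u₁) * X 19 u₀ := by group
    _ = _ := by
        rw [w15, w16, w19]
        congr 1; ring

include hφ in
theorem B_E (u v e f : K) : tB φ u * tE φ v e f * tB φ u = tE φ v e (f + tr φ (u * φ v)) := by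
  rw [tB, tE, B_E_raw, tE]
  congr 1
  simp only [tr, map_mul, hφ]; ring

include hφ in
theorem E_B (u v e f : K) : tE φ v e f * tB φ u = tB φ u * tE φ v e (f + tr φ (u * φ v)) := by
  rw [← B_E hφ, swap_invol (tB_self u)]

theorem X14_E (a v e f : K) : X 14 a * tE φ v e f * X 14 a = tE φ v e (f + a * e) := w14 _ _ _ _ _ _

theorem X14_B (a u : K) : X 14 a * tB φ u * X 14 a = tB φ u := by
  rw [tB, b14, mul_zero, add_zero]

include hφ in
theorem A_B (s u : K) : tA φ s * tB φ u * tA φ s =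
    tB φ u * tE φ (φ s * u + s * φ u) (tr φ (φ s * φ (φ s) * u)) (tr φ (s * φ u * φ (φ u))) := by
  rw [tB_tE, tA, tB, A3_BW]
  congr 1
  · ring
  · simp only [map_add, map_mul]; ring
  · simp only [map_add, map_mul, hφ]; ring
  · simp only [tr, map_mul, hφ]; ring
  · simp only [tr, map_mul, hφ]; ring

include hφ in
theorem tr_cross (s u : K) : tr φ (s * φ (φ s * u + s * φ u)) = 0 := by
  simp only [tr, map_add, map_mul, hφ]
  linear_combination (s * φ s * φ (φ u) + s * φ u * φ (φ s) + u * φ s * φ (φ s)) * CharTwo.two_eq_zero (R := K)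

include hφ in
theorem B_A (s u : K) : tB φ u * tA φ s * tB φ u =
    tA φ s * tE φ (φ s * u + s * φ u) (tr φ (φ s * φ (φ s) * u)) (tr φ (s * φ u * φ (φ u))) := by
  have h := A_B hφ s u
  obtain ⟨w, hw⟩ : ∃ w, w = tE φ (φ s * u + s * φ u) (tr φ (φ s * φ (φ s) * u)) (tr φ (s * φ u * φ (φ u))) :=
    ⟨_, rfl⟩
  have hfix : tA φ s * w * tA φ s = w := by
    rw [hw, A_E hφ, tr_cross hφ, add_zero]
  rw [← hw] at h ⊢
  calc tB φ u * tA φ s * tB φ u = tB φ u * (tA φ s * tB φ u * tA φ s) * tA φ s := by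
        rw [mul_assoc _ _ (tA φ s), mul_assoc _ _ (tA φ s), tA_self, mul_one, ← mul_assoc]
    _ = tB φ u * tB φ u * w * tA φ s := by rw [h]; group
    _ = w * tA φ s := by rw [tB_self, one_mul]
    _ = tA φ s * (tA φ s * w * tA φ s) := by simp only [← mul_assoc, tA_self, one_mul]
    _ = _ := by rw [hfix]

include hφ in
theorem X14_A {a : K} (ha : φ a = a) (s : K) : X 14 a * tA φ s * X 14 a =
    tA φ s * (tB φ (a * s) * tE φ (a * s * φ s) (a * (s * φ s * φ (φ s))) 0) := by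
  rw [tB_tE, tA, c14A]
  congr 1
  simp only [map_mul, ha, hφ]
  congr 1 <;> ring

include hφ in
theorem fixed_norm (s : K) : φ (s * φ s * φ (φ s)) = s * φ s * φ (φ s) := by
  simp only [map_mul, hφ]; ring

include hφ in
theorem A_14 {a : K} (ha : φ a = a) (s : K) : ∃ v e f : K, φ e = e ∧ φ f = f ∧
    tA φ s * X 14 a * tA φ s = X 14 a * (tB φ (a * s) * tE φ v e f) := by
  have h := X14_A hφ ha s
  refine ⟨φ s * (a * s) + s * φ (a * s) + a * s * φ s, tr φ (φ s * φ (φ s) * (a * s)) +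
      (a * (s * φ s * φ (φ s)) + tr φ (s * φ (a * s * φ s))), tr φ (s * φ (a * s) * φ (φ (a * s))) + 0,
    by simp only [map_add, tr_fixed hφ, map_mul, ha, hφ]; ring, by simp only [map_add, map_zero, tr_fixed hφ], ?_⟩
  obtain ⟨E₀, hE₀⟩ : ∃ E₀, E₀ = tE φ (a * s * φ s) (a * (s * φ s * φ (φ s))) 0 := ⟨_, rfl⟩
  calc tA φ s * X 14 a * tA φ s = X 14 a * ((X 14 a * tA φ s * X 14 a) * tA φ s) := by
        simp only [← mul_assoc, X_self, one_mul]
    _ = X 14 a * ((tA φ s * tB φ (a * s) * tA φ s) * (tA φ s * E₀ * tA φ s)) := by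
        rw [h, ← hE₀, ← conj_mul_invol (tA_self s)]
    _ = _ := by
        rw [A_B hφ, hE₀, A_E hφ, mul_assoc, tE_mul]

/-! ### monomial elements -/

theorem ne_act (i : Fin chevD4.rank) {r r' : ℕ}
    (h : decide (r < chevD4.nroots ∧ auxD4.w i r = r') = true) (t : K) :
    MulAut.conj ((chevRel certD4 K).ne (chevD4.simple i) 1) (X r t) = X r' t := by
  obtain ⟨hr, rfl⟩ := of_decide_eq_true h
  have h4 := ((chevRel certD4 K).isMon_ne_simple i (one_ne_zero (α := K)) ⟨r, hr⟩).2.2.2 t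
  have he : ((auxD4.eta i r : ℤ) : K) = 1 := by
    have h2 := auxD4.eta_sq_cast (F := K) i r
    have h3 : (((auxD4.eta i r : ℤ) : K) + 1) * (((auxD4.eta i r : ℤ) : K) + 1) = 0 := by
      linear_combination h2 + (((auxD4.eta i r : ℤ) : K) + 1) * CharTwo.two_eq_zero (R := K)
    have h5 := mul_self_eq_zero.1 h3
    rwa [← CharTwo.sub_eq_add, sub_eq_zero] at h5
  simp only [one_zpow, mul_one, he, one_mul] at h4
  exact h4

omit [CharP K 2] in
theorem he_act (i : Fin chevD4.rank) {r : ℕ} {m : ℤ}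
    (h : decide (r < chevD4.nroots ∧ chevD4.cartan i r = m) = true) {c : K} (hc : c ≠ 0) (t : K) :
    MulAut.conj ((chevRel certD4 K).he (chevD4.simple i) c) (X r t) = X r (c ^ m * t) := by
  obtain ⟨hr, rfl⟩ := of_decide_eq_true h
  exact ((chevRel certD4 K).isMon_he_simple i hc ⟨r, hr⟩).2.2.2 t

theorem simples : chevD4.simple 0 = 18 ∧ chevD4.simple 1 = 14 ∧ chevD4.simple 2 = 13 ∧ chevD4.simple 3 = 12 := by
  decide +kernel

theorem nB_X {r r' : ℕ} (h : decide (r < chevD4.nroots ∧ auxD4.w 1 r = r') = true) (t : K) :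
    MulAut.conj (nB (K := K)) (X r t) = X r' t := by
  rw [nB, ← simples.2.1]
  exact ne_act (K := K) ⟨1, by decide +kernel⟩ h t

theorem nA_X {r r' : ℕ} (h : decide (r < chevD4.nroots ∧ auxD4.w 3 r < chevD4.nroots ∧
      auxD4.w 2 (auxD4.w 3 r) < chevD4.nroots ∧ auxD4.w 0 (auxD4.w 2 (auxD4.w 3 r)) = r') = true) (t : K) :
    MulAut.conj (nA (K := K)) (X r t) = X r' t := by
  obtain ⟨b3, b2, b0, heq⟩ := of_decide_eq_true h
  have h3 : decide (r < chevD4.nroots ∧ auxD4.w 3 r = auxD4.w 3 r) = true := decide_eq_true ⟨b3, rfl⟩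
  have h2 : decide (auxD4.w 3 r < chevD4.nroots ∧
      auxD4.w 2 (auxD4.w 3 r) = auxD4.w 2 (auxD4.w 3 r)) = true := decide_eq_true ⟨b2, rfl⟩
  have h0 : decide (auxD4.w 2 (auxD4.w 3 r) < chevD4.nroots ∧
      auxD4.w 0 (auxD4.w 2 (auxD4.w 3 r)) = r') = true := decide_eq_true ⟨b0, heq⟩
  obtain ⟨s0, -, s2, s3⟩ := simples
  rw [nA, map_mul, map_mul, MulAut.mul_apply, MulAut.mul_apply]
  have e3 := ne_act (K := K) ⟨3, by decide +kernel⟩ h3 t
  have e2 := ne_act (K := K) ⟨2, by decide +kernel⟩ h2 t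
  have e0 := ne_act (K := K) ⟨0, by decide +kernel⟩ h0 t
  simp only [s3] at e3
  simp only [s2] at e2
  simp only [s0] at e0
  rw [e3, e2, e0]

omit [CharP K 2] in
theorem hA_X {r : ℕ} {m₀ m₂ m₃ : ℤ} (h0 : decide (r < chevD4.nroots ∧ chevD4.cartan 0 r = m₀) = true)
    (h2 : decide (r < chevD4.nroots ∧ chevD4.cartan 2 r = m₂) = true)
    (h3 : decide (r < chevD4.nroots ∧ chevD4.cartan 3 r = m₃) = true) {t : K} (ht : t ≠ 0) (x : K) :
    MulAut.conj (hA φ t) (X r x) = X r (t ^ m₀ * (φ t ^ m₂ * (φ (φ t) ^ m₃ * x))) := by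
  obtain ⟨s0, -, s2, s3⟩ := simples
  have h1 : φ t ≠ 0 := fun e => ht (φ.injective (e.trans (map_zero φ).symm))
  have h1' : φ (φ t) ≠ 0 := fun e => h1 (φ.injective (e.trans (map_zero φ).symm))
  rw [hA, map_mul, map_mul, MulAut.mul_apply, MulAut.mul_apply]
  have e3 := he_act (K := K) ⟨3, by decide +kernel⟩ h3 h1' x
  simp only [s3] at e3
  have e2 := he_act (K := K) ⟨2, by decide +kernel⟩ h2 h1 (φ (φ t) ^ m₃ * x)
  simp only [s2] at e2
  have e0 := he_act (K := K) ⟨0, by decide +kernel⟩ h0 ht (φ t ^ m₂ * (φ (φ t) ^ m₃ * x))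
  simp only [s0] at e0
  rw [e3, e2, e0]

omit [CharP K 2] in
theorem hB_X {r : ℕ} {m : ℤ} (h : decide (r < chevD4.nroots ∧ chevD4.cartan 1 r = m) = true) {a : K} (ha : a ≠ 0)
    (x : K) : MulAut.conj (hB a) (X r x) = X r (a ^ m * x) := by
  rw [hB, ← simples.2.1]
  exact he_act (K := K) ⟨1, by decide +kernel⟩ h ha x

omit [CharP K 2] in
theorem Cj.of_conj {c : ↥(chevD4.group K)} (hc : c ∈ H) (g : ↥(chevD4.group K)) : Cj H g (MulAut.conj c g) :=
  ⟨c, hc, rfl⟩

theorem nB_tE (v e f : K) : MulAut.conj (nB (K := K)) (tE φ v e f) = tE φ v f e := by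
  simp only [tE, W, map_mul]
  rw [nB_X (r' := 21) (by decide +kernel), nB_X (r' := 17) (by decide +kernel), nB_X (r' := 20) (by decide +kernel),
    nB_X (r' := 23) (by decide +kernel), nB_X (r := 23) (r' := 22) (by decide +kernel),
    mul_assoc, (xG_commute certD4 quietW.2.2.2.2.2 e f).eq, ← mul_assoc]

theorem nB_tA (s : K) : MulAut.conj (nB (K := K)) (tA φ s) = tB φ s := by
  simp only [tA, A3, tB, BW, W_zero, mul_one, map_mul]
  rw [nB_X (r' := 19) (by decide +kernel), nB_X (r' := 16) (by decide +kernel), nB_X (r' := 15) (by decide +kernel)]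

theorem nB_tB (u : K) : MulAut.conj (nB (K := K)) (tB φ u) = tA φ u := by
  simp only [tA, A3, tB, BW, W_zero, mul_one, map_mul]
  rw [nB_X (r' := 18) (by decide +kernel), nB_X (r' := 13) (by decide +kernel), nB_X (r' := 12) (by decide +kernel)]

include hφ in
theorem nA_B (u : K) : MulAut.conj (nA (K := K)) (tB φ u) = tE φ (φ (φ u)) 0 0 := by
  simp only [tB, BW, tE, W, W_zero, X_zero, mul_one, map_mul, hφ]
  rw [nA_X (r := 19) (r' := 17) (by decide +kernel),
    nA_X (r := 16) (r' := 20) (by decide +kernel),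
    nA_X (r := 15) (r' := 21) (by decide +kernel)]
  obtain ⟨⟨h1, h2, h3⟩, -, -⟩ := quietW
  rw [((xG_commute certD4 h1 _ u).symm.mul_left (xG_commute certD4 h2 _ (φ u)).symm).eq,
    ← mul_assoc]

theorem hA_A {t : K} (ht : t ≠ 0) (hφ : ∀ x, φ (φ (φ x)) = x) (s : K) :
    MulAut.conj (hA φ t) (tA φ s) = tA φ (t ^ 2 * s) := by
  simp only [tA, A3, map_mul]
  rw [hA_X (m₀ := 2) (m₂ := 0) (m₃ := 0) (by decide +kernel) (by decide +kernel) (by decide +kernel) ht,
    hA_X (m₀ := 0) (m₂ := 2) (m₃ := 0) (by decide +kernel) (by decide +kernel) (by decide +kernel) ht,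
    hA_X (m₀ := 0) (m₂ := 0) (m₃ := 2) (by decide +kernel) (by decide +kernel) (by decide +kernel) ht]
  simp [map_pow, zpow_ofNat]

theorem hA_E {t : K} (ht : t ≠ 0) (hφ : ∀ x, φ (φ (φ x)) = x) (v e f : K) :
    MulAut.conj (hA φ t) (tE φ v e f) = tE φ (t * φ t / φ (φ t) * v) (t * φ t * φ (φ t) * e) f := by
  simp only [tE, W, map_mul]
  rw [hA_X (m₀ := 1) (m₂ := 1) (m₃ := -1) (by decide +kernel) (by decide +kernel) (by decide +kernel) ht,
    hA_X (m₀ := -1) (m₂ := 1) (m₃ := 1) (by decide +kernel) (by decide +kernel) (by decide +kernel) ht,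
    hA_X (m₀ := 1) (m₂ := -1) (m₃ := 1) (by decide +kernel) (by decide +kernel) (by decide +kernel) ht,
    hA_X (m₀ := 1) (m₂ := 1) (m₃ := 1) (by decide +kernel) (by decide +kernel) (by decide +kernel) ht,
    hA_X (m₀ := 0) (m₂ := 0) (m₃ := 0) (by decide +kernel) (by decide +kernel) (by decide +kernel) ht]
  simp only [zpow_one, zpow_neg_one, zpow_zero, one_mul, map_mul, map_div₀, hφ, div_eq_mul_inv, map_inv₀]
  show W _ _ _ _ _ = W _ _ _ _ _
  congr 1 <;> ring

/-! ### the reduction -/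

include hφ in
theorem red_E (M : Mem φ H) (hperf : ∀ x : K, ∃ z, z * z = x) {v e f : K} (he : φ e = e) (hf : φ f = f) :
    Good H (tE φ v e f) := by
  by_cases hv : v = 0
  · subst hv
    have hscale : ∀ x : K, φ x = x → x ≠ 0 → Good H (tE φ 0 0 x) := by
      intro x hx hx0
      refine Or.inr (Or.inl ?_)
      have := Cj.of_conj (H := H) (M.mhB x⁻¹ (inv_ne_zero hx0) (by rw [map_inv₀, hx])) (X 23 x)
      rw [hB_X (m := 1) (by decide +kernel) (inv_ne_zero hx0), zpow_one, inv_mul_cancel₀ hx0] at this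
      rwa [show tE φ 0 0 x = X 23 x by simp [tE, W, X_zero]]
    by_cases h : e = 0
    · subst h
      by_cases h' : f = 0
      · subst h'; exact Or.inl tE_zero
      · exact hscale f hf h'
    · refine (Cj.invol (M.m14 (f / e) (by rw [map_div₀, he, hf])) (X_self _ _) _).good ?_
      rw [X14_E, div_mul_cancel₀ f h, CharTwo.add_self_eq_zero]
      refine (Cj.of_conj M.mnB _).good ?_
      rw [nB_tE]
      exact hscale e he h
  · have hv1 : φ v ≠ 0 := fun e => hv (φ.injective (e.trans (map_zero φ).symm))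
    refine (Cj.invol (M.mA (e / φ v)) (tA_self _) _).good ?_
    rw [A_E hφ, div_mul_cancel₀ e hv1, tr_of_fixed he, CharTwo.add_self_eq_zero]
    refine (Cj.invol (M.mB (f / φ v)) (tB_self _) _).good ?_
    rw [B_E hφ, div_mul_cancel₀ f hv1, tr_of_fixed hf, CharTwo.add_self_eq_zero]
    obtain ⟨z, hz⟩ := hperf v
    have hz0 : z ≠ 0 := by rintro rfl; exact hv (by rw [← hz, mul_zero])
    have hz1 : φ z ≠ 0 := fun e => hz0 (φ.injective (e.trans (map_zero φ).symm))
    have hz2 : φ (φ z) ≠ 0 := fun e => hz1 (φ.injective (e.trans (map_zero φ).symm))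
    obtain ⟨c, hc⟩ : ∃ c, c = (z * φ z * φ (φ z))⁻¹ := ⟨_, rfl⟩
    have hcf : φ c = c := by rw [hc, map_inv₀, fixed_norm hφ]
    have hc0 : c ≠ 0 := by rw [hc]; exact inv_ne_zero (mul_ne_zero (mul_ne_zero hz0 hz1) hz2)
    have hr0 : φ (z * c) ≠ 0 := by rw [map_mul, hcf]; exact mul_ne_zero hz1 hc0
    refine (Cj.of_conj (M.mhA _ hr0) _).good (Or.inr (Or.inr ?_))
    rw [hA_E hr0 hφ]
    have key : φ (z * c) * φ (φ (z * c)) / φ (φ (φ (z * c))) * v = 1 := by
      simp only [map_mul, hcf, hφ]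
      rw [← hz, hc]
      field_simp
    rw [key]
    simp only [tE, map_one, mul_zero]
    exact ⟨1, one_mem _, by group⟩

include hφ in
theorem red_A (M : Mem φ H) (hperf : ∀ x : K, ∃ z, z * z = x) {s v e f : K} (hs : s ≠ 0) (he : φ e = e)
    (hf : φ f = f) (h2 : tA φ s * tE φ v e f * (tA φ s * tE φ v e f) = 1) :
    Good H (tA φ s * tE φ v e f) := by
  obtain ⟨t, ht⟩ := hperf s⁻¹
  have ht0 : t ≠ 0 := by rintro rfl; exact inv_ne_zero hs (by rw [← ht, mul_zero])
  have hc1 := Cj.of_conj (H := H) (M.mhA t ht0) (tA φ s * tE φ v e f)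
  rw [map_mul, hA_A ht0 hφ, hA_E ht0 hφ, sq, ht, inv_mul_cancel₀ hs] at hc1
  refine hc1.good ?_
  have h2' := hc1.sq h2
  obtain ⟨v', hv'⟩ : ∃ v', v' = t * φ t / φ (φ t) * v := ⟨_, rfl⟩
  obtain ⟨e', he'⟩ : ∃ e', e' = t * φ t * φ (φ t) * e := ⟨_, rfl⟩
  have hef : φ e' = e' := by rw [he', map_mul, fixed_norm hφ, he]
  rw [← hv', ← he'] at h2' ⊢
  have htr : tr φ v' = 0 := by
    rw [← mul_assoc, A_E hφ, tE_mul, CharTwo.add_self_eq_zero, CharTwo.add_self_eq_zero, add_right_comm,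
      CharTwo.add_self_eq_zero, zero_add, one_mul] at h2'
    by_contra hne
    simp only [tE, W, map_zero, X_zero, one_mul, mul_one] at h2'
    have h := (chevRel certD4 K).xe_inj_param (r := ⟨22, by decide +kernel⟩)
      (h2'.trans ((chevRel certD4 K).xe_zero 22).symm)
    apply hne
    rw [← h]
    simp only [tr, hφ]; ring
  refine (Cj.invol (M.mB (φ v')) (tB_self _) _).good ?_
  rw [conj_mul_invol (tB_self _), B_A hφ, B_E hφ, mul_assoc, tE_mul]
  simp only [map_one, one_mul]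
  rw [show φ v' + φ (φ v') + v' = 0 by rw [← htr, tr]; ring]
  obtain ⟨e₁, he₁⟩ : ∃ e₁, e₁ = tr φ (φ v') + e' := ⟨_, rfl⟩
  obtain ⟨f₁, hf₁⟩ : ∃ f₁, f₁ = tr φ (φ (φ v') * φ (φ (φ v'))) + (f + tr φ (φ v' * φ v')) := ⟨_, rfl⟩
  have he₁f : φ e₁ = e₁ := by rw [he₁, map_add, tr_fixed hφ, hef]
  have hf₁f : φ f₁ = f₁ := by rw [hf₁]; simp only [map_add, tr_fixed hφ, hf]
  rw [← he₁, ← hf₁]
  obtain ⟨c, hc⟩ := hperf f₁
  have hcf : φ c = c := by
    have h : φ c * φ c = c * c := by rw [← map_mul, hc, hf₁f]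
    have h' : (φ c + c) * (φ c + c) = 0 := by
      linear_combination h + (c * c + φ c * c) * CharTwo.two_eq_zero (R := K)
    have := mul_self_eq_zero.1 h'
    rwa [← CharTwo.sub_eq_add, sub_eq_zero] at this
  refine (Cj.invol (M.mB c) (tB_self _) _).good ?_
  rw [conj_mul_invol (tB_self _), B_A hφ, B_E hφ, mul_assoc, tE_mul]
  simp only [map_one, map_zero, one_mul, mul_zero, add_zero, hcf, tr_of_fixed hcf,
    tr_of_fixed (show φ (c * c) = c * c by rw [map_mul, hcf]), tr_of_fixed (map_zero φ)]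
  rw [CharTwo.add_self_eq_zero, hc, CharTwo.add_self_eq_zero]
  obtain ⟨w, hw⟩ : ∃ w, w = c + e₁ := ⟨_, rfl⟩
  have hwf : φ w = w := by rw [hw, map_add, hcf, he₁f]
  rw [← hw]
  refine (Cj.invol (M.mC w) (tE_self _ _ _) _).good ?_
  rw [conj_mul_invol (tE_self _ _ _), swap_invol (tA_self (φ := φ) 1) (tE φ w 0 0), A_E hφ, one_mul, hwf,
    tr_of_fixed hwf]
  simp only [mul_assoc, tE_mul]
  simp only [zero_add, add_zero, CharTwo.add_self_eq_zero, tE_zero, mul_one]
  refine (Cj.of_conj M.mnB _).good ?_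
  rw [nB_tA]
  refine (Cj.of_conj M.mnA _).good (Or.inr (Or.inr ?_))
  rw [nA_B hφ]
  simp only [tE, map_one]
  exact ⟨1, one_mem _, by group⟩

include hφ in
/-- coordinates of a product of the two middle classes -/
theorem BE_eq_one {u v e f : K} (h : tB φ u * tE φ v e f = 1) : u = 0 := by
  have _ := hφ 0
  obtain ⟨-, -, -, -, -, -, ⟨q1, q2, q3⟩⟩ := tabA
  by_contra hu
  have hu2 : φ (φ u) ≠ 0 := fun e => hu (φ.injective ((φ.injective (e.trans (map_zero φ).symm)).trans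
    (map_zero φ).symm))
  have hb : half chevD4 ≤ 15 := by decide +kernel
  refine (chevRel certD4 K).not_mem_succ (r := ⟨15, by decide +kernel⟩) hb hu2 ?_
  have hmem : ∀ r : Fin chevD4.nroots, 16 ≤ (r : ℕ) → ∀ t : K,
      X (r : ℕ) t ∈ (chevRel certD4 K).US (geSet chevD4 16) := fun r hr t =>
    (chevRel certD4 K).xe_mem_US (r := r) (S := geSet chevD4 16) hr t
  have e1 : X 19 u * X 16 (φ u) * X 15 (φ (φ u)) = X 15 (φ (φ u)) * (X 19 u * X 16 (φ u)) :=
    ((xG_commute certD4 q2 u _).mul_left (xG_commute certD4 q3 (φ u) _)).eq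
  simp only [tB, BW, W_zero, mul_one] at h
  rw [e1, mul_assoc, mul_eq_one_iff_eq_inv] at h
  show X 15 (φ (φ u)) ∈ _
  rw [h]
  refine inv_mem (mul_mem (mul_mem (hmem ⟨19, by decide +kernel⟩ (by decide) _)
    (hmem ⟨16, by decide +kernel⟩ (by decide) _)) ?_)
  exact mul_mem (mul_mem (mul_mem (mul_mem (hmem ⟨21, by decide +kernel⟩ (by decide) _)
    (hmem ⟨17, by decide +kernel⟩ (by decide) _)) (hmem ⟨20, by decide +kernel⟩ (by decide) _))
    (hmem ⟨22, by decide +kernel⟩ (by decide) _)) (hmem ⟨23, by decide +kernel⟩ (by decide) _)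

include hφ in
theorem red_rad (M : Mem φ H) (hperf : ∀ x : K, ∃ z, z * z = x) {s u v e f : K} (he : φ e = e) (hf : φ f = f)
    (h2 : tA φ s * (tB φ u * tE φ v e f) * (tA φ s * (tB φ u * tE φ v e f)) = 1) :
    Good H (tA φ s * (tB φ u * tE φ v e f)) := by
  by_cases hs : s = 0
  · subst hs
    have hA0 : tA φ (0 : K) = 1 := by simp [tA, A3, X_zero]
    rw [hA0, one_mul] at h2 ⊢
    by_cases hu : u = 0
    · subst hu
      rw [show tB φ (0 : K) = 1 by simp [tB, BW, W_zero, X_zero], one_mul]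
      exact red_E hφ M hperf he hf
    · have hc := Cj.of_conj (H := H) M.mnB (tB φ u * tE φ v e f)
      rw [map_mul, nB_tB, nB_tE] at hc
      exact hc.good (red_A hφ M hperf hu hf he (hc.sq h2))
  · have hs1 : φ s ≠ 0 := fun e => hs (φ.injective (e.trans (map_zero φ).symm))
    have hsq : tA φ s * (tB φ u * tE φ v e f) * (tA φ s * (tB φ u * tE φ v e f)) =
        tE φ (φ s * u + s * φ u) (tr φ (φ s * φ (φ s) * u) + tr φ (s * φ v))
          (tr φ (s * φ u * φ (φ u)) + tr φ (u * φ (φ s * u + s * φ u + v))) := by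
      calc tA φ s * (tB φ u * tE φ v e f) * (tA φ s * (tB φ u * tE φ v e f))
          = (tA φ s * tB φ u * tA φ s) * (tA φ s * tE φ v e f * tA φ s) * tB φ u * tE φ v e f := by
            rw [← conj_mul_invol (tA_self s)]; group
        _ = tB φ u * (tE φ (φ s * u + s * φ u + v) (tr φ (φ s * φ (φ s) * u) + (e + tr φ (s * φ v)))
              (tr φ (s * φ u * φ (φ u)) + f)) * tB φ u * tE φ v e f := by
            rw [A_B hφ, A_E hφ, mul_assoc (tB φ u), tE_mul]
        _ = _ := by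
            rw [B_E hφ, tE_mul]
            congr 1
            · linear_combination v * CharTwo.two_eq_zero (R := K)
            · linear_combination e * CharTwo.two_eq_zero (R := K)
            · linear_combination f * CharTwo.two_eq_zero (R := K)
    have hv : φ s * u + s * φ u = 0 := by
      rw [h2] at hsq
      by_contra hne
      have hb : half chevD4 ≤ 17 := by decide +kernel
      have hne1 : φ (φ s * u + s * φ u) ≠ 0 := fun e => hne (φ.injective (e.trans (map_zero φ).symm))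
      refine (chevRel certD4 K).not_mem_succ (r := ⟨17, by decide +kernel⟩) hb hne1 ?_
      obtain ⟨⟨q1, -, -⟩, -, -⟩ := quietW
      have h' := hsq.symm
      simp only [tE, W] at h'
      rw [(xG_commute certD4 q1 _ _).eq, mul_assoc, mul_assoc, mul_assoc, mul_eq_one_iff_eq_inv] at h'
      refine Eq.mp (congrArg (· ∈ _) h'.symm) ?_
      have hmem : ∀ r : Fin chevD4.nroots, 18 ≤ (r : ℕ) → ∀ t : K,
          X (r : ℕ) t ∈ (chevRel certD4 K).US (geSet chevD4 18) := fun r hr t =>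
        (chevRel certD4 K).xe_mem_US (r := r) (S := geSet chevD4 18) hr t
      exact inv_mem (mul_mem (hmem ⟨21, by decide +kernel⟩ (by decide) _)
        (mul_mem (hmem ⟨20, by decide +kernel⟩ (by decide) _)
        (mul_mem (hmem ⟨22, by decide +kernel⟩ (by decide) _) (hmem ⟨23, by decide +kernel⟩ (by decide) _))))
    have ha : φ (u / s) = u / s := by
      rw [map_div₀, div_eq_div_iff hs1 hs]
      linear_combination hv - (φ s * u) * CharTwo.two_eq_zero (R := K)
    have hc : Cj H (tA φ s * (tB φ u * tE φ v e f))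
        (X 14 (u / s) * (tA φ s * (tB φ u * tE φ v e f)) * X 14 (u / s)) :=
      Cj.invol (M.m14 _ ha) (X_self _ _) _
    have heq : X 14 (u / s) * (tA φ s * (tB φ u * tE φ v e f)) * X 14 (u / s) =
        tA φ s * tE φ (u / s * s * φ s + v) (u / s * (s * φ s * φ (φ s)) + e)
          (0 + tr φ (u * φ (u / s * s * φ s)) + (f + u / s * e)) := by
      rw [conj_mul_invol (X_self _ _), X14_A hφ ha, conj_mul_invol (X_self _ _), X14_B, X14_E,
        div_mul_cancel₀ u hs]
      calc tA φ s * (tB φ u * tE φ (u * φ s) (u / s * (s * φ s * φ (φ s))) 0) *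
            (tB φ u * tE φ v e (f + u / s * e))
          = tA φ s * ((tB φ u * tE φ (u * φ s) (u / s * (s * φ s * φ (φ s))) 0 * tB φ u) *
              tE φ v e (f + u / s * e)) := by group
        _ = _ := by rw [B_E hφ, tE_mul]
    rw [heq] at hc
    refine hc.good (red_A hφ M hperf hs ?_ ?_ (hc.sq h2))
    · rw [map_add, map_mul, fixed_norm hφ, ha, he]
    · simp only [map_add, map_zero, tr_fixed hφ, map_mul, ha, he, hf]

include hφ in
/-- every involution in normal form reduces to one of the two representatives -/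
theorem red_form (M : Mem φ H) (hperf : ∀ x : K, ∃ z, z * z = x) {a s u v e f : K} (ha : φ a = a)
    (he : φ e = e) (hf : φ f = f)
    (h2 : X 14 a * (tA φ s * (tB φ u * tE φ v e f)) * (X 14 a * (tA φ s * (tB φ u * tE φ v e f))) = 1) :
    Good H (X 14 a * (tA φ s * (tB φ u * tE φ v e f))) := by
  by_cases ha0 : a = 0
  · subst ha0
    rw [X_zero, one_mul] at h2 ⊢
    exact red_rad hφ M hperf he hf h2
  have hs : s = 0 := by
    by_contra hs
    obtain ⟨v', e', f', -, -, hsq⟩ : ∃ v' e' f', True ∧ True ∧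
        X 14 a * (tA φ s * (tB φ u * tE φ v e f)) * (X 14 a * (tA φ s * (tB φ u * tE φ v e f))) =
          tB φ (a * s) * tE φ v' e' f' := by
      refine ⟨?_, ?_, ?_, trivial, trivial, ?h⟩
      case h =>
        calc X 14 a * (tA φ s * (tB φ u * tE φ v e f)) * (X 14 a * (tA φ s * (tB φ u * tE φ v e f)))
            = (X 14 a * tA φ s * X 14 a) * (X 14 a * (tB φ u * tE φ v e f) * X 14 a) *
                tA φ s * (tB φ u * tE φ v e f) := by
              rw [← conj_mul_invol (X_self 14 a)]; group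
          _ = tA φ s * (tB φ (a * s) * tE φ (a * s * φ s) (a * (s * φ s * φ (φ s))) 0) *
                (tB φ u * tE φ v e (f + a * e)) * tA φ s * (tB φ u * tE φ v e f) := by
              rw [X14_A hφ ha, conj_mul_invol (X_self 14 a) (tB φ u), X14_B, X14_E]
          _ = tA φ s * (tB φ (a * s + u) * tE φ (a * s * φ s + v) (a * (s * φ s * φ (φ s)) + e)
                (0 + tr φ (u * φ (a * s * φ s)) + (f + a * e))) * tA φ s * (tB φ u * tE φ v e f) := by
              rw [← tB_mul, ← tE_mul, ← B_E hφ]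
              simp only [← mul_assoc]
              congr 3
              rw [mul_assoc _ (tB φ u) (tB φ u), tB_self, mul_one]
          _ = _ := by
            rw [conj_mul_invol (tA_self s), A_B hφ, A_E hφ, mul_assoc (tB φ (a * s + u)), tE_mul,
              ← mul_assoc _ (tB φ u) (tE φ v e f), mul_assoc _ _ (tB φ u), E_B hφ, ← mul_assoc, tB_mul, mul_assoc, tE_mul,
              add_assoc (a * s) u u, CharTwo.add_self_eq_zero, add_zero]
    rw [h2] at hsq
    exact mul_ne_zero ha0 hs (BE_eq_one hφ hsq.symm)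
  subst hs
  have hA0 : tA φ (0 : K) = 1 := by simp [tA, A3, X_zero]
  rw [hA0, one_mul] at h2 ⊢
  obtain ⟨v₀, e₀, f₀, he₀, hf₀, h14⟩ := A_14 hφ ha (u / a)
  rw [mul_div_cancel₀ u ha0] at h14
  obtain ⟨v₁, e₁, f₁, he₁, hf₁, hc⟩ : ∃ v₁ e₁ f₁, φ e₁ = e₁ ∧ φ f₁ = f₁ ∧
      Cj H (X 14 a * (tB φ u * tE φ v e f)) (X 14 a * tE φ v₁ e₁ f₁) := by
    have hc := Cj.invol (M.mA (u / a)) (tA_self _) (X 14 a * (tB φ u * tE φ v e f))
    rw [conj_mul_invol (tA_self _), conj_mul_invol (tA_self _), h14, A_B hφ, A_E hφ] at hc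
    obtain ⟨p, hp⟩ : ∃ p, p = φ (u / a) * u + u / a * φ u := ⟨_, rfl⟩
    obtain ⟨m, hm⟩ : ∃ m, m = tr φ (φ (u / a) * φ (φ (u / a)) * u) := ⟨_, rfl⟩
    obtain ⟨n, hn⟩ : ∃ n, n = tr φ (u / a * φ u * φ (φ u)) := ⟨_, rfl⟩
    rw [← hp, ← hm, ← hn] at hc
    refine ⟨v₀ + p + v, e₀ + m + (e + tr φ (u / a * φ v)), f₀ + tr φ (u * φ v₀) + n + f,
      by simp only [map_add, he₀, hm, he, tr_fixed hφ], by simp only [map_add, hf₀, hn, hf, tr_fixed hφ],
      Eq.mp (congrArg _ ?_) hc⟩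
    calc X 14 a * (tB φ u * tE φ v₀ e₀ f₀) * (tB φ u * tE φ p m n * tE φ v (e + tr φ (u / a * φ v)) f)
        = X 14 a * ((tB φ u * tE φ v₀ e₀ f₀ * tB φ u) * (tE φ p m n * tE φ v (e + tr φ (u / a * φ v)) f)) := by
          group
      _ = _ := by
          rw [B_E hφ, tE_mul, tE_mul]
          simp only [add_assoc]
  refine hc.good ?_
  have hsq := hc.sq h2
  have he0 : e₁ = 0 := by
    rw [← mul_assoc, X14_E, tE_mul] at hsq
    simp only [CharTwo.add_self_eq_zero, tE, W, map_zero, X_zero, one_mul] at hsq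
    rw [add_right_comm, CharTwo.add_self_eq_zero, zero_add] at hsq
    exact (mul_eq_zero.1 ((chevRel certD4 K).xe_inj_param (r := ⟨23, by decide +kernel⟩)
      (hsq.trans ((chevRel certD4 K).xe_zero 23).symm))).resolve_left ha0
  subst he0
  have himg : MulAut.conj (nA (K := K)) (X 14 a * tE φ v₁ 0 f₁) = tB φ (φ v₁) * tE φ 0 a f₁ := by
    simp only [map_mul, tE, W, X_zero, mul_one]
    rw [nA_X (r := 14) (r' := 22) (by decide +kernel),
      nA_X (r := 21) (r' := 15) (by decide +kernel),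
      nA_X (r := 17) (r' := 19) (by decide +kernel),
      nA_X (r := 20) (r' := 16) (by decide +kernel),
      nA_X (r := 23) (r' := 23) (by decide +kernel)]
    simp only [tB, BW, W_zero, map_zero, X_zero, one_mul, mul_one, hφ]
    obtain ⟨-, -, -, ⟨-, -, -, k19, -⟩, ⟨-, -, -, k16, -⟩, ⟨-, -, -, k15, -⟩, -⟩ := tabW
    obtain ⟨-, -, -, -, -, -, ⟨-, p2, p3⟩⟩ := tabA
    have hc22 : Commute (X 19 (φ v₁) * X 16 (φ (φ v₁)) * X 15 v₁) (X 22 a) :=
      ((xG_commute certD4 k19 _ a).mul_left (xG_commute certD4 k16 _ a)).mul_left (xG_commute certD4 k15 _ a)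
    have hord : X 15 v₁ * (X 19 (φ v₁) * X 16 (φ (φ v₁))) = X 19 (φ v₁) * X 16 (φ (φ v₁)) * X 15 v₁ :=
      (((xG_commute certD4 p2 _ v₁).mul_left (xG_commute certD4 p3 _ v₁))).eq.symm
    calc X 22 a * (X 15 v₁ * X 19 (φ v₁) * X 16 (φ (φ v₁)) * X 23 f₁)
        = X 22 a * (X 15 v₁ * (X 19 (φ v₁) * X 16 (φ (φ v₁)))) * X 23 f₁ := by group
      _ = _ := by rw [hord, ← hc22.eq]; group
  have hc2 := Cj.of_conj (H := H) M.mnA (X 14 a * tE φ v₁ 0 f₁)
  rw [himg] at hc2
  have := red_rad hφ M hperf (s := 0) (u := φ v₁) (v := 0) (e := a) (f := f₁) ha hf₁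
    (by rw [hA0, one_mul]; exact hc2.sq hsq)
  rw [hA0, one_mul] at this
  exact hc2.good this

end CfsgLib.Lie.Chev.TwGroups.D4Inv
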