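/-
The two classes of involutions of `³D₄(q)`, `q` even.
-/
import Cfsg.Agent.Lib.Lie.Twisted.D4Inv.Red
import Cfsg.Agent.Lib.Lie.Twisted.D4Inv.Distinct

set_option autoImplicit false

namespace CfsgLib.Lie.Chev.TwGroups.D4Inv

open Cfsg.Lie
open scoped Pointwise

variable {K : Type*} [Field K] [Fintype K] [CharP K 2] {q : ℕ} (hq : IsPrimePow q)
  (hK : Fintype.card K = q ^ 3)

theorem frD4_three (x : K) : frD4 hq hK (frD4 hq hK (frD4 hq hK x)) = x := by
  simp only [frD4_apply]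
  exact pow_qqq hK x

/-- the fixed group -/
noncomputable abbrev P1 : Subgroup ↥(chevD4.group K) := (twD4 hq hK).P1

theorem tA_mem (s : K) : tA (frD4 hq hK) s ∈ P1 hq hK := by
  have h := (classes_mem_P1 hq hK s).1
  simpa only [xAD4, tA, A3, frD4_apply] using h

theorem tB_mem (s : K) : tB (frD4 hq hK) s ∈ P1 hq hK := by
  have h := (classes_mem_P1 hq hK s).2.1
  simpa only [xBD4, tB, BW, W_zero, mul_one, frD4_apply, CharTwo.neg_eq] using h

theorem tC_mem (s : K) : tE (frD4 hq hK) s 0 0 ∈ P1 hq hK := by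
  have h := (classes_mem_P1 hq hK s).2.2
  simpa only [xMD4, tE, W, X_zero, mul_one, frD4_apply, CharTwo.neg_eq] using h

theorem nA_mem : nA (K := K) ∈ P1 hq hK := by
  obtain ⟨⟨c1, c2, c3⟩, ⟨e1, e2, e3⟩, ⟨f1, f1'⟩, ⟨f2, f2'⟩, ⟨f3, f3'⟩⟩ := commD4
  obtain ⟨⟨n18, n13, n12, -⟩, -⟩ := negD4
  have sy : ∀ {r s : ℕ}, chkNoTerms chevD4 r s = true → ∀ u v : K,
      Commute (xG certD4 K r u) (xG certD4 K s v) := fun h u v => xG_commute certD4 h u v
  have h13 : chkNoTerms chevD4 13 (chevD4.neg 12) = true := by rw [n12]; exact f3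
  have h13' : chkNoTerms chevD4 (chevD4.neg 13) 12 = true := by rw [n13]; exact f3'
  show nA (K := K) ∈ (twistedD4 K q).subgroupOf (chevD4.group K)
  rw [nA, ← ne_pair certD4 c3 h13 h13', n13, n12]
  show xG certD4 K 18 1 * xG certD4 K (chevD4.neg 18) (-(1 : K)⁻¹) * xG certD4 K 18 1 * _ ∈ _
  rw [n18, ← sandwich_split ((sy f1' _ _).mul_right (sy f2' _ _)).symm ((sy c1 _ _).mul_right (sy c2 _ _)).symm
    ((sy f1 _ _).mul_right (sy f2 _ _)).symm]
  refine mul_mem (mul_mem ?_ ?_) ?_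
  · have h := wordD4_triple_mem (K := K) (q := q) (a := 18) (b := 13) (c := 12) (by decide) 1
    rwa [one_pow, one_pow] at h
  · have h := wordD4_triple_mem (K := K) (q := q) (a := 5) (b := 10) (c := 11) (by decide) (-(1 : K)⁻¹)
    rw [inv_one, CharTwo.neg_eq] at h ⊢
    rw [one_pow, one_pow] at h
    exact h
  · have h := wordD4_triple_mem (K := K) (q := q) (a := 18) (b := 13) (c := 12) (by decide) 1
    rwa [one_pow, one_pow] at h

theorem nB_mem : nB (K := K) ∈ P1 hq hK := by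
  obtain ⟨⟨-, -, -, n14⟩, -⟩ := negD4
  show xG certD4 K 14 1 * xG certD4 K (chevD4.neg 14) (-(1 : K)⁻¹) * xG certD4 K 14 1 ∈ _
  rw [n14]
  exact mul_mem (mul_mem (wordD4_single_mem (r := 14) (by decide) (one_pow q))
    (wordD4_single_mem (r := 9) (by decide) (by rw [inv_one, CharTwo.neg_eq, one_pow])))
    (wordD4_single_mem (r := 14) (by decide) (one_pow q))

theorem memD4 : Mem (frD4 hq hK) (P1 hq hK) where
  mA := tA_mem hq hK
  mB := tB_mem hq hK
  mC := tC_mem hq hK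
  m14 a ha := wordD4_single_mem (r := 14) (by decide) (by rwa [frD4_apply] at ha)
  mnA := nA_mem hq hK
  mnB := nB_mem hq hK
  mhA t _ := by
    show hA (frD4 hq hK) t ∈ (twistedD4 K q).subgroupOf (chevD4.group K)
    simp only [hA, frD4_apply]
    exact he_triple_mem hq hK t
  mhB a _ ha := he14_mem hq hK (by rwa [frD4_apply] at ha)

/-- the fixed field -/
abbrev Fix : Type _ := {x : K // frD4 hq hK x = x}

theorem card_fix : Nat.card (Fix hq hK) = q := by
  refine (Nat.card_congr (Equiv.subtypeEquivRight fun x => ?_)).trans (card_fixed hq.one_lt three_pos' hK)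
  rw [frD4_apply]

/-- the normal form -/
noncomputable def form (p : Fix hq hK × K × K × K × Fix hq hK × Fix hq hK) : ↥(chevD4.group K) :=
  X 14 (p.1 : K) * (tA (frD4 hq hK) p.2.1 * (tB (frD4 hq hK) p.2.2.1 *
    tE (frD4 hq hK) p.2.2.2.1 (p.2.2.2.2.1 : K) (p.2.2.2.2.2 : K)))

theorem pos_le : ∀ r ∈ [12, 13, 14, 15, 16, 17, 18, 19, 20, 21, 22, 23], half chevD4 ≤ r ∧ r < chevD4.nroots := by
  decide +kernel

omit [Fintype K] [CharP K 2] in
theorem ge_mem {k r : ℕ} (h : decide (k ≤ r ∧ r < chevD4.nroots) = true) (t : K) :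
    X r t ∈ (chevRel certD4 K).US (geSet chevD4 k) := by
  obtain ⟨h1, h2⟩ := of_decide_eq_true h
  exact (chevRel certD4 K).xe_mem_US (r := ⟨r, h2⟩) (S := geSet chevD4 k) h1 t

omit [Fintype K] in
/-- uniqueness of the leading coordinate -/
theorem lead_eq {r : ℕ} (h : decide (half chevD4 ≤ r ∧ r < chevD4.nroots) = true) {t t' : K}
    {x x' : ↥(chevD4.group K)} (hx : x ∈ (chevRel certD4 K).US (geSet chevD4 (r + 1)))
    (hx' : x' ∈ (chevRel certD4 K).US (geSet chevD4 (r + 1))) (e : X r t * x = X r t' * x') : t = t' := by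
  obtain ⟨h1, h2⟩ := of_decide_eq_true h
  by_contra hne
  refine (chevRel certD4 K).not_mem_succ (r := ⟨r, h2⟩) h1 (t := t' + t) ?_ ?_
  · intro h0
    rw [← CharTwo.sub_eq_add, sub_eq_zero] at h0
    exact hne h0.symm
  · have e2 : X r (t' + t) = x' * x⁻¹ := by
      rw [← X_add, eq_mul_inv_iff_mul_eq, mul_assoc, e, ← mul_assoc, X_self, one_mul]
    show X r (t' + t) ∈ _
    rw [e2]
    exact mul_mem hx' (inv_mem hx)

theorem tBE_mem {k : ℕ} (hk : k ≤ 15) (u v e f : K) :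
    tB (frD4 hq hK) u * tE (frD4 hq hK) v e f ∈ (chevRel certD4 K).US (geSet chevD4 k) := by
  have hm : ∀ (r : ℕ), r ∈ [15, 16, 17, 19, 20, 21, 22, 23] → ∀ t : K,
      X r t ∈ (chevRel certD4 K).US (geSet chevD4 k) := fun r hr t => by
    refine ge_mem (decide_eq_true ⟨?_, (pos_le r ?_).2⟩) t
    · simp only [List.mem_cons, List.not_mem_nil, or_false] at hr; omega
    · simp only [List.mem_cons, List.not_mem_nil, or_false] at hr ⊢; omega
  simp only [tB, tE, BW, W, X_zero, mul_one]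
  exact mul_mem (mul_mem (mul_mem (hm 19 (by decide) _) (hm 16 (by decide) _)) (hm 15 (by decide) _))
    (mul_mem (mul_mem (mul_mem (mul_mem (hm 21 (by decide) _) (hm 17 (by decide) _)) (hm 20 (by decide) _))
      (hm 22 (by decide) _)) (hm 23 (by decide) _))

theorem form_injective : Function.Injective (form hq hK) := by
  rintro ⟨⟨a, ha⟩, s, u, v, ⟨e, he⟩, ⟨f, hf⟩⟩ ⟨⟨a', ha'⟩, s', u', v', ⟨e', he'⟩, ⟨f', hf'⟩⟩ h
  obtain ⟨φ, hφ⟩ : ∃ φ, φ = frD4 hq hK := ⟨_, rfl⟩
  have h3 : ∀ x, φ (φ (φ x)) = x := hφ ▸ frD4_three hq hK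
  simp only [form, ← hφ] at h ha ha' he he' hf hf'
  have hinj : ∀ x y : K, φ x = φ y → x = y := fun _ _ h => φ.injective h
  have hs : s = s' := by
    have key : ∀ (a s : K) (m : ↥(chevD4.group K)), m ∈ (chevRel certD4 K).US (geSet chevD4 15) →
        ∃ y ∈ (chevRel certD4 K).US (geSet chevD4 13), X 14 a * (tA φ s * m) = X 12 (φ (φ s)) * y := by
      intro a s m hm
      refine ⟨X 14 a * X 15 (φ (φ s) * a) * (X 13 (φ s) * X 18 s * m), ?_, ?_⟩
      · refine mul_mem (mul_mem (ge_mem (by decide +kernel) _) (ge_mem (by decide +kernel) _))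
          (mul_mem (mul_mem (ge_mem (by decide +kernel) _) (ge_mem (by decide +kernel) _)) ?_)
        exact (chevRel certD4 K).US_mono (fun r (hr : 15 ≤ (r : ℕ)) => (show 13 ≤ (r : ℕ) by omega)) hm
      · rw [tA, A3_rev, ← sum_conj (r := 12) (s := 14) (k := 15) (by decide +kernel)]
        simp only [← mul_assoc, X_self, one_mul]
    obtain ⟨y, hy, e1⟩ := key a s _ (tBE_mem hq hK le_rfl u v e f)
    obtain ⟨y', hy', e2⟩ := key a' s' _ (tBE_mem hq hK le_rfl u' v' e' f')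
    simp only [← hφ] at e1 e2
    exact hinj _ _ (hinj _ _ (lead_eq (r := 12) (by decide +kernel) hy hy' (by rw [← e1, ← e2, h])))
  subst hs
  have haa : a = a' := by
    have hb : φ (a + a') = a + a' := by rw [map_add, ha, ha']
    obtain ⟨v₀, e₀, f₀, -, -, h14⟩ := A_14 h3 hb s
    have e1 : X 14 (a + a') * (tB φ ((a + a') * s) * tE φ v₀ e₀ f₀ * (tB φ u * tE φ v e f)) =
        X 14 (0 : K) * (tB φ u' * tE φ v' e' f') := by
      rw [X_zero, one_mul, ← mul_assoc, ← h14, add_comm a a', ← X_add]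
      have := congrArg (fun g => tA φ s * X 14 a' * g) h
      simp only [← mul_assoc] at this ⊢
      rw [this]
      simp only [mul_assoc (tA φ s) (X 14 a') (X 14 a'), X_self, mul_one, tA_self, one_mul]
    have := lead_eq (r := 14) (by decide +kernel)
      (mul_mem (hφ ▸ tBE_mem hq hK le_rfl _ _ _ _) (hφ ▸ tBE_mem hq hK le_rfl _ _ _ _))
      (hφ ▸ tBE_mem hq hK le_rfl _ _ _ _) e1
    rwa [← CharTwo.sub_eq_add, sub_eq_zero] at this
  subst haa
  have h' := mul_left_cancel (mul_left_cancel h)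
  have hu : u = u' := by
    have e1 : tB φ (u' + u) * tE φ (v + v') (e + e') (f + f') = 1 := by
      calc tB φ (u' + u) * tE φ (v + v') (e + e') (f + f')
          = tB φ u' * ((tB φ u * tE φ v e f) * tE φ v' e' f') := by
            rw [← tB_mul, ← tE_mul]; group
        _ = tB φ u' * tB φ u' * (tE φ v' e' f' * tE φ v' e' f') := by rw [h']; group
        _ = 1 := by rw [tB_self, tE_self, one_mul]
    have := BE_eq_one h3 e1
    rw [← CharTwo.sub_eq_add, sub_eq_zero] at this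
    exact this.symm
  subst hu
  have hE := mul_left_cancel h'
  have hv : v = v' := by
    have key : ∀ (v e f : K), ∃ y ∈ (chevRel certD4 K).US (geSet chevD4 18), tE φ v e f = X 17 (φ v) * y := by
      intro v e f
      refine ⟨X 21 v * X 20 (φ (φ v)) * X 22 e * X 23 f, mul_mem (mul_mem (mul_mem (ge_mem (by decide +kernel) _)
        (ge_mem (by decide +kernel) _)) (ge_mem (by decide +kernel) _)) (ge_mem (by decide +kernel) _), ?_⟩
      rw [tE, W, (xG_commute certD4 quietW.1.1 v (φ v)).eq]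
      simp only [mul_assoc]
    obtain ⟨y, hy, e1⟩ := key v e f
    obtain ⟨y', hy', e2⟩ := key v' e' f'
    exact hinj _ _ (lead_eq (r := 17) (by decide +kernel) hy hy' (by rw [← e1, ← e2, hE]))
  subst hv
  simp only [tE, W, mul_assoc, mul_right_inj] at hE
  have hee : e = e' := lead_eq (r := 22) (by decide +kernel) (ge_mem (by decide +kernel) _)
    (ge_mem (by decide +kernel) _) hE
  subst hee
  have hff : f = f' := (chevRel certD4 K).xe_inj_param (r := ⟨23, (pos_le 23 (by decide)).2⟩) (mul_left_cancel hE)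
  subst hff
  rfl

theorem form_mem (p) : form hq hK p ∈ P1 hq hK ⊓ (chevRel certD4 K).UP := by
  obtain ⟨⟨a, ha⟩, s, u, v, ⟨e, he⟩, ⟨f, hf⟩⟩ := p
  refine ⟨mul_mem ((memD4 hq hK).m14 a ha) (mul_mem (tA_mem hq hK s) (mul_mem (tB_mem hq hK u) ?_)), ?_⟩
  · have e1 : tE (frD4 hq hK) v e f = tE (frD4 hq hK) v 0 0 * X 22 e * X 23 f := by
      simp only [tE, W, X_zero, mul_one]
    rw [e1]
    obtain ⟨f22, f23, -⟩ := fixed_root_D4 hq hK
    exact mul_mem (mul_mem (tC_mem hq hK v) ((twD4 hq hK).Cm_le (f22 e (by rwa [frD4_apply] at he))))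
      ((twD4 hq hK).Cm_le (f23 f (by rwa [frD4_apply] at hf)))
  · have hm : ∀ (r : ℕ), r ∈ [12, 13, 14, 15, 16, 17, 18, 19, 20, 21, 22, 23] → ∀ t : K,
        X r t ∈ (chevRel certD4 K).UP := fun r hr t => xG_pos_mem certD4 (pos_le r hr).1 (pos_le r hr).2 t
    simp only [form, tA, A3, tB, BW, tE, W, X_zero, mul_one]
    exact mul_mem (hm 14 (by decide) _) (mul_mem (mul_mem (mul_mem (hm 18 (by decide) _) (hm 13 (by decide) _))
      (hm 12 (by decide) _)) (mul_mem (mul_mem (mul_mem (hm 19 (by decide) _) (hm 16 (by decide) _))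
      (hm 15 (by decide) _)) (mul_mem (mul_mem (mul_mem (mul_mem (hm 21 (by decide) _) (hm 17 (by decide) _))
      (hm 20 (by decide) _)) (hm 22 (by decide) _)) (hm 23 (by decide) _))))

theorem card_UP1 : Nat.card ↥(P1 hq hK ⊓ (chevRel certD4 K).UP) = q ^ 12 := by
  obtain ⟨e, he, hU⟩ := (twD4 hq hK).card_U1 one_pos (classCardD4 hq hK)
  have h12 : half chevD4 = 12 := by decide +kernel
  rw [h12, one_mul] at he
  rw [hU, ← he]

theorem exists_form {g : ↥(chevD4.group K)} (hg : g ∈ P1 hq hK ⊓ (chevRel certD4 K).UP) :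
    ∃ p, form hq hK p = g := by
  haveI := (chevRel certD4 K).Finite_of_field
  obtain ⟨Φ, hΦ⟩ : ∃ Φ : _ → ↥(P1 hq hK ⊓ (chevRel certD4 K).UP), ∀ p, (Φ p : ↥(chevD4.group K)) = form hq hK p :=
    ⟨fun p => ⟨_, form_mem hq hK p⟩, fun _ => rfl⟩
  have hb : Function.Bijective Φ := by
    refine (Nat.bijective_iff_injective_and_card Φ).2 ⟨fun a b h => form_injective hq hK ?_, ?_⟩
    · rw [← hΦ, ← hΦ, h]
    · simp only [Nat.card_prod, card_fix, Nat.card_eq_fintype_card (α := K), hK, card_UP1]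
      ring
  obtain ⟨p, hp⟩ := hb.2 ⟨g, hg⟩
  exact ⟨p, by rw [← hΦ, hp]⟩

include hq hK in
/-- every involution of the fixed group is conjugate to one of the two representatives -/
theorem exists_rep {x : ↥(chevD4.group K)} (hx : x ∈ P1 hq hK) (h2 : x * x = 1) :
    Good (P1 hq hK) x := by
  haveI := (chevRel certD4 K).Finite_of_field
  haveI : Fact (Nat.Prime 2) := ⟨Nat.prime_two⟩
  obtain ⟨n, -, hn⟩ := FiniteField.card K 2
  obtain ⟨m, -, rfl⟩ := (Nat.dvd_prime_pow Nat.prime_two).1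
    (show q ∣ 2 ^ (n : ℕ) by rw [← hn, hK]; exact dvd_pow_self q three_ne_zero)
  obtain ⟨U, hU⟩ : ∃ U : Subgroup ↥(P1 hq hK), U = (P1 hq hK ⊓ (chevRel certD4 K).UP).subgroupOf (P1 hq hK) :=
    ⟨_, rfl⟩
  have hUc : Nat.card ↥U = (2 ^ m) ^ 12 := by
    rw [hU, Nat.card_congr (Subgroup.subgroupOfEquivOfLe inf_le_left).toEquiv, card_UP1]
  have hidx : ¬ 2 ∣ U.index := by
    have h1 : Nat.card ↥U * U.index = Nat.card ↥(twistedD4 K (2 ^ m)) := by
      rw [U.card_mul_index]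
      exact Nat.card_congr (Subgroup.subgroupOfEquivOfLe twD4_le).toEquiv
    rw [card_twD4 hq hK, hUc, mul_assoc, mul_assoc] at h1
    rw [Nat.eq_of_mul_eq_mul_left (pow_pos (Nat.two_pow_pos m) 12) h1]
    have hm : m ≠ 0 := by rintro rfl; exact absurd hq.one_lt (by simp)
    have h2q : ∀ k, k ≠ 0 → 2 ∣ (2 ^ m) ^ k := fun k hk =>
      dvd_pow (dvd_pow_self 2 hm) hk
    intro hd
    rcases (Nat.prime_two.dvd_mul).1 hd with h | h
    · have := Nat.dvd_sub (h2q 2 (by omega)) h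
      rw [Nat.sub_sub_self (Nat.one_le_pow _ _ hq.pos)] at this
      exact absurd this (by decide)
    · rcases (Nat.prime_two.dvd_mul).1 h with h | h
      · have := Nat.dvd_sub (h2q 6 (by omega)) h
        rw [Nat.sub_sub_self (Nat.one_le_pow _ _ hq.pos)] at this
        exact absurd this (by decide)
      · rw [Nat.dvd_add_right (dvd_add (h2q 8 (by omega)) (h2q 4 (by omega)))] at h
        exact absurd h (by decide)
  obtain ⟨S, hS⟩ : ∃ S : Sylow 2 ↥(P1 hq hK), (S : Subgroup ↥(P1 hq hK)) = U :=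
    ⟨(IsPGroup.of_card (hUc.trans (pow_mul 2 m 12).symm)).toSylow hidx, IsPGroup.toSylow_coe _ _⟩
  obtain ⟨x', hx'⟩ : ∃ x' : ↥(P1 hq hK), (x' : ↥(chevD4.group K)) = x := ⟨⟨x, hx⟩, rfl⟩
  have hp : IsPGroup 2 ↥(Subgroup.zpowers x') := by
    have h : x' ^ 2 = 1 := by
      rw [pow_two]; exact Subtype.ext (by rw [Subgroup.coe_mul, hx']; exact h2)
    rintro ⟨y, hy⟩
    obtain ⟨k, rfl⟩ := Subgroup.mem_zpowers_iff.1 hy
    refine ⟨1, Subtype.ext ?_⟩
    show (x' ^ k) ^ (2 ^ 1) = 1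
    rw [pow_one, ← zpow_natCast, ← zpow_mul, mul_comm, zpow_mul, zpow_natCast, h, one_zpow]
  obtain ⟨Q, hQ⟩ := hp.exists_le_sylow
  obtain ⟨g, hg⟩ := MulAction.exists_smul_eq ↥(P1 hq hK) Q S
  have hgx : g * x' * g⁻¹ ∈ U := by
    have h : MulAut.conj g • x' ∈ MulAut.conj g • (Q : Subgroup ↥(P1 hq hK)) :=
      Subgroup.smul_mem_pointwise_smul _ _ _ (hQ (Subgroup.mem_zpowers x'))
    rw [← Sylow.coe_subgroup_smul, hg, hS] at h
    exact h
  rw [hU, Subgroup.mem_subgroupOf] at hgx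
  simp only [Subgroup.coe_mul, Subgroup.coe_inv, hx'] at hgx
  have hc : Cj (P1 hq hK) x ((g : ↥(chevD4.group K)) * x * (g : ↥(chevD4.group K))⁻¹) := ⟨g, g.2, rfl⟩
  obtain ⟨p, hp'⟩ := exists_form hq hK hgx
  refine hc.good ?_
  have hperf : ∀ z : K, ∃ y, y * y = z := fun z => by
    obtain ⟨y, hy⟩ := FiniteField.isSquare_of_char_two (ringChar.eq K 2) z
    exact ⟨y, hy.symm⟩
  have hsq := hc.sq h2
  rw [← hp'] at hsq ⊢
  exact red_form (frD4_three hq hK) (memD4 hq hK) hperf p.1.2 p.2.2.2.2.1.2 p.2.2.2.2.2.2 hsq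

theorem y23_mem : X 23 (1 : K) ∈ P1 hq hK :=
  (twD4 hq hK).Cm_le ((fixed_root_D4 hq hK).2.1 1 (one_pow q))

theorem yC_mem : W (1 : K) 1 1 0 0 ∈ P1 hq hK := by
  have h := tC_mem hq hK 1
  simpa only [tE, map_one] using h

include hq hK in
/-- `³D₄(q)`, `q` even, has two classes of involutions -/
theorem class_count :
    (ConjClasses.mk '' {g : ↥(twistedD4 K q) | orderOf g = 2}).ncard = 2 := by
  obtain ⟨Θ, hΘ⟩ : ∃ Θ : ↥(P1 hq hK) ≃* ↥(twistedD4 K q), ∀ g, ((Θ g : ↥(twistedD4 K q)) : GL chevD4.Idx K) =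
      ((g : ↥(chevD4.group K)) : GL chevD4.Idx K) :=
    ⟨Subgroup.subgroupOfEquivOfLe twD4_le, fun _ => rfl⟩
  obtain ⟨y1, hy1⟩ : ∃ y : ↥(P1 hq hK), (y : ↥(chevD4.group K)) = X 23 1 := ⟨⟨_, y23_mem hq hK⟩, rfl⟩
  obtain ⟨y2, hy2⟩ : ∃ y : ↥(P1 hq hK), (y : ↥(chevD4.group K)) = W 1 1 1 0 0 := ⟨⟨_, yC_mem hq hK⟩, rfl⟩
  have hne : ∀ c : ↥(chevD4.group K), c * X 23 1 * c⁻¹ ≠ W (1 : K) 1 1 0 0 := by
    intro c h
    have h' := congrArg (fun g : ↥(chevD4.group K) =>
      ((g : GL chevD4.Idx K) : Matrix chevD4.Idx chevD4.Idx K)) h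
    simp only [W, X_zero, mul_one, Subgroup.coe_mul, Subgroup.coe_inv, Units.val_mul, X, xG_val] at h'
    exact not_conj K (c : GL chevD4.Idx K) h'
  have h23 : X 23 (1 : K) ≠ 1 := xG_ne_one certD4 (by decide +kernel)
  have hC1 : W (1 : K) 1 1 0 0 ≠ 1 := by
    intro h
    have hin : X 17 (1 : K) ∈ (chevRel certD4 K).US (geSet chevD4 (17 + 1)) := by
      simp only [W, X_zero, mul_one] at h
      rw [(xG_commute certD4 quietW.1.1 1 (1 : K)).eq, mul_assoc, mul_eq_one_iff_eq_inv] at h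
      rw [X, h]
      exact inv_mem (mul_mem (ge_mem (by decide +kernel) _) (ge_mem (by decide +kernel) _))
    exact (chevRel certD4 K).not_mem_succ (r := ⟨17, (pos_le 17 (by decide)).2⟩) (pos_le 17 (by decide)).1
      one_ne_zero hin
  have key : ConjClasses.mk '' {g : ↥(twistedD4 K q) | orderOf g = 2} =
      {ConjClasses.mk (Θ y1), ConjClasses.mk (Θ y2)} := by
    have hord : ∀ y : ↥(P1 hq hK), (y : ↥(chevD4.group K)) ≠ 1 →
        (y : ↥(chevD4.group K)) * (y : ↥(chevD4.group K)) = 1 → orderOf (Θ y) = 2 := fun y h1 h2 => by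
      refine orderOf_eq_prime_iff.2 ⟨?_, fun h => h1 ?_⟩
      · rw [pow_two, ← map_mul, show y * y = 1 from Subtype.ext h2, map_one]
      · rw [EmbeddingLike.map_eq_one_iff] at h
        rw [h]; rfl
    ext C
    simp only [Set.mem_image, Set.mem_insert_iff, Set.mem_singleton_iff]
    constructor
    · rintro ⟨g, hg, rfl⟩
      have hg' : orderOf g = 2 := hg
      obtain ⟨x, rfl⟩ := Θ.surjective g
      obtain ⟨hpow, hne1⟩ := orderOf_eq_prime_iff.1 hg'
      have hx2 : x * x = 1 := Θ.injective (by rw [map_mul, map_one, ← pow_two]; exact hpow)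
      have conv : ∀ y : ↥(P1 hq hK), Cj (P1 hq hK) (x : ↥(chevD4.group K)) y →
          ConjClasses.mk (Θ x) = ConjClasses.mk (Θ y) := by
        rintro y ⟨c, hc, he⟩
        refine ConjClasses.mk_eq_mk_iff_isConj.2 (isConj_iff.2 ⟨Θ ⟨c, hc⟩, ?_⟩)
        rw [← map_inv, ← map_mul, ← map_mul]
        exact congrArg Θ (Subtype.ext he)
      rcases exists_rep hq hK x.2 (congrArg Subtype.val hx2) with h | h | h
      · exact absurd (by rw [show x = 1 from Subtype.ext h, map_one]) hne1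
      · exact Or.inl (conv y1 (hy1 ▸ h))
      · exact Or.inr (conv y2 (hy2 ▸ h))
    · rintro (rfl | rfl)
      · exact ⟨Θ y1, hord y1 (hy1 ▸ h23) (by rw [hy1]; exact X_self _ _), rfl⟩
      · exact ⟨Θ y2, hord y2 (hy2 ▸ hC1) (by rw [hy2]; exact W_self _ _ _ _ _), rfl⟩
  rw [key, Set.ncard_pair]
  intro h
  obtain ⟨c, hc⟩ := isConj_iff.1 (ConjClasses.mk_eq_mk_iff_isConj.1 h)
  obtain ⟨d, rfl⟩ := Θ.surjective c
  rw [← map_inv, ← map_mul, ← map_mul] at hc
  have := congrArg Subtype.val (Θ.injective hc)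
  simp only [Subgroup.coe_mul, Subgroup.coe_inv, hy1, hy2] at this
  exact hne _ this

end CfsgLib.Lie.Chev.TwGroups.D4Inv
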